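import Cfsg.Agent.NineTwo.Columns
import Cfsg.Agent.Blocks.DefectZeroVanish
import Cfsg.Agent.S3968
import Cfsg.Agent.S1001
import Cfsg.Agent.S4503
import Cfsg.Agent.SmallSimple.L33Order.Central
import Cfsg.Agent.SmallSimple.RealPrime.Setup
import Cfsg.Agent.SmallSylow.DihedralNine.Chars

/-!
# The prime `q`: it occurs once, is self-centralising and at most nineteen
-/

set_option autoImplicit false
set_option linter.unusedSectionVars false
set_option linter.style.haveILetI false

namespace CfsgLib.NineTwo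

open Finset Cfsg CfsgLib.Block CfsgLib.Block.Chr CfsgLib.Char
open scoped ComplexConjugate Classical

universe u

variable {G : Type u} [Group G] [Fintype G] [IsSimpleGroup G] [Fintype (IrrCharacter G)] {q a b : ℕ}

/-- A non-principal character has no non-trivial element in its kernel. -/
theorem faithful {χ : IrrCharacter G} (hne : (χ : G → ℂ) ≠ fun _ => 1) (g : G)
    (h : (χ : G → ℂ) g = (χ : G → ℂ) 1) : g = 1 :=
  by_contra fun hg => hne (CfsgLib.DihedralNine.Setup.eq_one_of_apply χ.2 hg h)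

/-- A non-principal character is not linear. -/
theorem two_le_degree (hG : ¬ IsMulCommutative G) {χ : IrrCharacter G}
    (hne : (χ : G → ℂ) ≠ fun _ => 1) : 2 ≤ charDegree (χ : G → ℂ) := by
  have h0 := (irr_one χ).2
  have h1 : charDegree (χ : G → ℂ) ≠ 1 := fun h =>
    ColumnData.ne_one_of_simple hG χ.2 hne (by rw [(irr_one χ).1, h, Nat.cast_one])
  omega

theorem degree_dvd (χ : IrrCharacter G) : charDegree (χ : G → ℂ) ∣ Nat.card G :=
  IsIrrCharacter.degree_dvd_card χ.2 (irr_one χ).1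

/-- A faithful character of degree `q` forces `b = 1`. -/
theorem b_eq_one (hG : ¬ IsMulCommutative G) (hq : q.Prime) (hq2 : q ≠ 2) (hq3 : q ≠ 3)
    (hcard : Nat.card G = 9 * 2 ^ a * q ^ b) {χ : IrrCharacter G}
    (hdeg : charDegree (χ : G → ℂ) = q) : b = 1 := by
  have hne : (χ : G → ℂ) ≠ fun _ => 1 := fun e => by
    have h := (irr_one χ).1
    rw [hdeg, congrFun e 1] at h
    exact hq.ne_one (Nat.cast_eq_one.1 h.symm)
  have hb0 : b ≠ 0 := by
    rintro rfl
    have hd := degree_dvd χ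
    rw [hdeg, hcard, pow_zero, mul_one] at hd
    rcases hq.dvd_mul.1 hd with h | h
    · exact hq3 ((Nat.prime_dvd_prime_iff_eq hq Nat.prime_three).1
        (hq.dvd_of_dvd_pow (show q ∣ 3 ^ 2 by simpa using h)))
    · exact hq2 ((Nat.prime_dvd_prime_iff_eq hq Nat.prime_two).1 (hq.dvd_of_dvd_pow h))
  by_contra hb
  have hdiv : q ^ 2 ∣ Nat.card G := hcard ▸ (pow_dvd_pow q (by omega)).mul_left _
  refine Cfsg.Agent.S3968.result q hq χ (by rw [(irr_one χ).1, hdeg])
    (fun g h => faithful hne g h) hdiv ?_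
  rcases (inferInstance : (Subgroup.center G).Normal).eq_bot_or_eq_top with h | h
  · exact h
  · exact absurd ⟨⟨fun x y => (Subgroup.mem_center_iff.1 (h ▸ Subgroup.mem_top x) y).symm⟩⟩ hG

/-- Elements of order `q` generate their centraliser. -/
theorem centralizer_q (hq : q.Prime) (hcard : Nat.card G = 9 * 2 ^ a * q) {z : G}
    (hz : orderOf z = q) : Subgroup.centralizer ({z} : Set G) = Subgroup.zpowers z :=
  Cfsg.Agent.S1001.result q 2 a hq (by rw [hcard]; ring) z hz

theorem not_q_sq (hq : q.Prime) (hq2 : q ≠ 2) (hq3 : q ≠ 3) (hcard : Nat.card G = 9 * 2 ^ a * q) :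
    ¬ q ^ 2 ∣ Nat.card G := by
  rw [hcard, sq, Nat.mul_dvd_mul_iff_right hq.pos]
  intro h
  rcases hq.dvd_mul.1 h with h | h
  · exact hq3 ((Nat.prime_dvd_prime_iff_eq hq Nat.prime_three).1
      (hq.dvd_of_dvd_pow (show q ∣ 3 ^ 2 by simpa using h)))
  · exact hq2 ((Nat.prime_dvd_prime_iff_eq hq Nat.prime_two).1 (hq.dvd_of_dvd_pow h))

/-- A multiple of `q` in the degree: the value at elements of order `q` vanishes. -/
theorem apply_q_eq_zero (hq : q.Prime) (hq2 : q ≠ 2) (hq3 : q ≠ 3)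
    (hcard : Nat.card G = 9 * 2 ^ a * q) {χ : IrrCharacter G} (hd : q ∣ charDegree (χ : G → ℂ))
    {z : G} (hz : q ∣ orderOf z) : (χ : G → ℂ) z = 0 := by
  refine eq_zero_of_defectZero hq χ ?_ hz
  have h2 := not_q_sq hq hq2 hq3 hcard
  have h1 : q ∣ Nat.card G := hcard ▸ Dvd.intro_left _ rfl
  have hf : (Nat.card G).factorization q = 1 := by
    have hge := (hq.dvd_iff_one_le_factorization Nat.card_pos.ne').1 h1
    by_contra hne
    exact h2 ((hq.pow_dvd_iff_le_factorization Nat.card_pos.ne').2 (by omega))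
  rwa [hf, pow_one]

/-- **Parity**: some non-principal character of degree dividing nine is non-zero at `z`. -/
theorem exists_odd_degree (hq : q.Prime) (hq2 : q ≠ 2) (hq3 : q ≠ 3)
    (hcard : Nat.card G = 9 * 2 ^ a * q) {z : G} (hz : orderOf z = q) :
    ∃ χ : IrrCharacter G, (χ : G → ℂ) ≠ (fun _ => 1) ∧ charDegree (χ : G → ℂ) ∣ 9 ∧
      (χ : G → ℂ) z ≠ 0 := by
  by_contra hno
  push Not at hno
  have hz1 : z ≠ 1 := fun e => hq.ne_one (by rw [← hz, e, orderOf_one])
  have horth := column_orth z (1 : G)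
  rw [if_neg (fun h => hz1 (isConj_one_left.1 h))] at horth
  rw [← Finset.add_sum_erase univ _ (Finset.mem_univ (oneIrr G)), oneIrr_coe] at horth
  have hterm : ∀ χ ∈ univ.erase (oneIrr G),
      IsIntegral ℤ (((χ : G → ℂ) z * conj ((χ : G → ℂ) 1)) / 2) := by
    intro χ hχ
    have hne : (χ : G → ℂ) ≠ fun _ => 1 := fun e => (Finset.mem_erase.1 hχ).1 (Subtype.ext e)
    rw [(irr_one χ).1, map_natCast]
    rcases eq_or_ne ((χ : G → ℂ) z) 0 with h0 | h0
    · rw [h0, zero_mul, zero_div]; exact isIntegral_zero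
    have hnd : ¬ q ∣ charDegree (χ : G → ℂ) := fun h =>
      h0 (apply_q_eq_zero hq hq2 hq3 hcard h (hz ▸ dvd_rfl))
    by_cases h2 : 2 ∣ charDegree (χ : G → ℂ)
    · obtain ⟨c, hc⟩ := h2
      have : (χ : G → ℂ) z * (charDegree (χ : G → ℂ) : ℂ) / 2 = (χ : G → ℂ) z * (c : ℂ) := by
        rw [hc]; push_cast; ring
      rw [this]
      exact (IsCharacter.isIntegral (IsIrrCharacter.isCharacter χ.2) z).mul
        (isIntegral_algebraMap (R := ℤ) (A := ℂ) (x := (c : ℤ)) |> fun h => by simpa using h)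
    · refine absurd (hno χ hne ?_) h0
      have hd := degree_dvd χ
      rw [hcard] at hd
      refine (Nat.Coprime.dvd_of_dvd_mul_right ?_ (((hq.coprime_iff_not_dvd.2 hnd).symm).dvd_of_dvd_mul_right hd))
      exact Nat.Coprime.pow_right _ ((Nat.prime_two.coprime_iff_not_dvd.2 h2).symm)
  have hint := IsIntegral.sum (R := ℤ) _ hterm
  rw [← Finset.sum_div] at hint
  have hval : (∑ χ ∈ univ.erase (oneIrr G), (χ : G → ℂ) z * conj ((χ : G → ℂ) 1)) / 2 =
      (((-1 : ℚ) / 2 : ℚ) : ℂ) := by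
    push_cast
    rw [map_one, mul_one] at horth
    linear_combination horth / 2
  rw [hval] at hint
  obtain ⟨m, hm⟩ := exists_int_of_isIntegral_ratCast hint
  have : (-1 : ℚ) / 2 = (m : ℚ) := by exact_mod_cast hm
  rw [div_eq_iff (by norm_num : (2 : ℚ) ≠ 0)] at this
  have h' : (-1 : ℤ) = m * 2 := by exact_mod_cast this
  omega

theorem exists_z (hq : q.Prime) (hcard : Nat.card G = 9 * 2 ^ a * q) : ∃ z : G, orderOf z = q := by
  haveI := Fact.mk hq
  exact exists_prime_orderOf_dvd_card' q (hcard ▸ Dvd.intro_left _ rfl)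

/-- `q` is at most nineteen. -/
theorem q_le (hG : ¬ IsMulCommutative G) (hq : q.Prime) (hq2 : q ≠ 2) (hq3 : q ≠ 3)
    (hcard : Nat.card G = 9 * 2 ^ a * q) : q ≤ 19 := by
  obtain ⟨z, hz⟩ := exists_z hq hcard
  obtain ⟨χ, hne, hd, -⟩ := exists_odd_degree hq hq2 hq3 hcard hz
  have h := Cfsg.Agent.S4503.result q hq (hcard ▸ Dvd.intro_left _ rfl) (not_q_sq hq hq2 hq3 hcard)
    (fun H hH hc => by
      rcases hH.eq_bot_or_eq_top with rfl | rfl
      · rw [Subgroup.card_bot] at hc; exact hq.ne_one hc.symm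
      · rw [Subgroup.card_top] at hc
        haveI := Fact.mk hq
        haveI := isCyclic_of_prime_card hc
        exact hG inferInstance)
    (χ : G → ℂ) (IsIrrCharacter.isCharacter χ.2) (fun g h => faithful hne g h)
  have := Nat.le_of_dvd (by norm_num) hd
  omega

/-- A central involution of a Sylow 2-subgroup. -/
theorem exists_central (hq : q.Prime) (hq2 : q ≠ 2) (hcard : Nat.card G = 9 * 2 ^ a * q ^ b)
    (ha : a ≠ 0) : ∃ s : G, orderOf s = 2 ∧
      2 ^ a ∣ Nat.card (Subgroup.centralizer ({s} : Set G)) := by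
  have hodd : ¬ 2 ∣ 9 * q ^ b := fun h => by
    rcases Nat.prime_two.dvd_mul.1 h with h | h
    · norm_num at h
    · exact hq2 ((Nat.prime_dvd_prime_iff_eq Nat.prime_two hq).1 (Nat.prime_two.dvd_of_dvd_pow h)).symm
  obtain ⟨s, hs, hdvd⟩ := CfsgLib.RealPrime.exists_central_involution (G := G) rfl
    (show Nat.card G = 2 ^ a * (9 * q ^ b) by rw [hcard]; ring) hodd ha
  refine ⟨s, hs, ?_⟩
  have h := card_conj_class_mul_card_centralizer s
  refine Nat.Coprime.dvd_of_dvd_mul_left (m := Nat.card {x : G // IsConj s x}) ?_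
    (h.symm ▸ hcard.symm ▸ ⟨9 * q ^ b, by ring⟩)
  exact Nat.Coprime.pow_left _ (Nat.prime_two.coprime_iff_not_dvd.2 fun h2 => hodd (h2.trans hdvd))

/-- A character of 2-power degree vanishes at an element with centraliser containing a Sylow
2-subgroup. -/
theorem apply_eq_zero_central (hG : ¬ IsMulCommutative G) {m : ℕ} (hcard : Nat.card G = 2 ^ a * m)
    (hm : ¬ 2 ∣ m) {χ : IrrCharacter G} {i : ℕ} (hi : i ≠ 0)
    (hd : charDegree (χ : G → ℂ) = 2 ^ i) {s : G} (hs1 : s ≠ 1)
    (hs : 2 ^ a ∣ Nat.card (Subgroup.centralizer ({s} : Set G))) : (χ : G → ℂ) s = 0 := by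
  refine CfsgLib.L33Order.apply_eq_zero_of_coprime hG χ.2 (irr_one χ).1
    (by rw [hd]; exact (Nat.one_lt_two_pow hi).ne') hs1 ?_
  rw [hd]
  refine Nat.Coprime.pow_left _ (Nat.prime_two.coprime_iff_not_dvd.2 fun h2 => hm ?_)
  obtain ⟨c, hc⟩ := hs
  have hmul := (Subgroup.centralizer ({s} : Set G)).card_mul_index
  rw [hc, hcard, mul_assoc] at hmul
  rw [← Nat.eq_of_mul_eq_mul_left (by positivity) hmul]
  exact h2.mul_left c

end CfsgLib.NineTwo
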