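import Cfsg.Agent.Transfer.Basic
import Cfsg.Agent.Solvable.Basics
import Cfsg.Prelude.Def_Transfer
import Cfsg.Prelude.Def_Solvable

/-!
# Simple groups of order `9·2^a·q^b`: the normaliser of a Sylow 3-subgroup

With at least three classes of non-identity 3-elements the action of the normaliser on the Sylow
3-subgroup is inversion, or a four-group of diagonal maps.
-/

set_option autoImplicit false
set_option linter.unusedSectionVars false
set_option linter.style.haveILetI false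

namespace CfsgLib.NineTwo

open Subgroup
open scoped commutatorElement

universe u

variable {G : Type u} [Group G] [Finite G]

/-- The normaliser acts on `R` by the identity or by inversion. -/
structure InvFusion (R : Subgroup G) : Prop where
  act : ∀ n ∈ normalizer (R : Set G),
    (∀ x ∈ R, n * x * n⁻¹ = x) ∨ (∀ x ∈ R, n * x * n⁻¹ = x⁻¹)
  inverter : ∃ n ∈ normalizer (R : Set G), ∀ x ∈ R, n * x * n⁻¹ = x⁻¹
  fus : ∀ x ∈ R, ∀ y ∈ R, IsConj x y → y = x ∨ y = x⁻¹

/-- The normaliser acts on `R` by the four diagonal sign changes of the coordinates `f`. -/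
structure FourFusion (R : Subgroup G) (f : ZMod 3 × ZMod 3 → G) : Prop where
  add : ∀ p q, f (p + q) = f p * f q
  inj : Function.Injective f
  mem : ∀ p, f p ∈ R
  surj : ∀ x ∈ R, ∃ p, f p = x
  act : ∀ n ∈ normalizer (R : Set G), ∃ ε δ : ZMod 3,
    ε * ε = 1 ∧ δ * δ = 1 ∧ ∀ p, n * f p * n⁻¹ = f (ε * p.1, δ * p.2)
  real : ∀ ε δ : ZMod 3, ε * ε = 1 → δ * δ = 1 →
    ∃ n ∈ normalizer (R : Set G), ∀ p, n * f p * n⁻¹ = f (ε * p.1, δ * p.2)
  fus : ∀ p q, IsConj (f p) (f q) → ∃ ε δ : ZMod 3,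
    ε * ε = 1 ∧ δ * δ = 1 ∧ q = (ε * p.1, δ * p.2)

/-- The linear map of the plane with the given images of the unit vectors. -/
def lin (u v p : ZMod 3 × ZMod 3) : ZMod 3 × ZMod 3 :=
  (p.1 * u.1 + p.2 * v.1, p.1 * u.2 + p.2 * v.2)

/-- Membership in an orbit of length at least four. -/
def FourOrbit (M : ZMod 3 × ZMod 3 → ZMod 3 × ZMod 3) (p : ZMod 3 × ZMod 3) : Prop :=
  p ≠ M p ∧ p ≠ M (M p) ∧ p ≠ M (M (M p)) ∧ M p ≠ M (M p) ∧ M p ≠ M (M (M p)) ∧
    M (M p) ≠ M (M (M p))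

instance (M : ZMod 3 × ZMod 3 → ZMod 3 × ZMod 3) (p : ZMod 3 × ZMod 3) :
    Decidable (FourOrbit M p) := by unfold FourOrbit; infer_instance

theorem lin_pow_forty_eight : ∀ u v : ZMod 3 × ZMod 3, u.1 * v.2 - u.2 * v.1 ≠ 0 →
    (lin u v)^[48] (1, 0) = (1, 0) ∧ (lin u v)^[48] (0, 1) = (0, 1) := by
  decide +kernel

theorem lin_cases : ∀ u v : ZMod 3 × ZMod 3, u.1 * v.2 - u.2 * v.1 ≠ 0 →
    (lin u v)^[16] (1, 0) = (1, 0) → (lin u v)^[16] (0, 1) = (0, 1) →
    (lin u v u = (1, 0) ∧ lin u v v = (0, 1)) ∨ ∀ p, p ≠ 0 → FourOrbit (lin u v) p := by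
  decide +kernel

theorem lin_involution : ∀ u v : ZMod 3 × ZMod 3, lin u v u = (1, 0) → lin u v v = (0, 1) →
    (u = (1, 0) ∧ v = (0, 1)) ∨ (u = (-1, 0) ∧ v = (0, -1)) ∨
    ∃ e w : ZMod 3 × ZMod 3, e.1 * w.2 - e.2 * w.1 ≠ 0 ∧ lin u v e = e ∧ lin u v w = -w := by
  unfold lin
  decide +kernel

set_option synthInstance.maxSize 1000 in
set_option synthInstance.maxHeartbeats 200000 in
theorem lin_commuting : ∀ u v : ZMod 3 × ZMod 3, lin u v u = (1, 0) → lin u v v = (0, 1) →
    lin u v (lin (1, 0) (0, -1) (lin u v (1, 0))) = (1, 0) →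
    lin u v (lin (1, 0) (0, -1) (lin u v (lin (1, 0) (0, -1) (0, 1)))) = (0, 1) →
    ∃ ε δ : ZMod 3, ε * ε = 1 ∧ δ * δ = 1 ∧ u = (ε, 0) ∧ v = (0, δ) := by
  decide +kernel

/-- An element of order dividing nine generating a 3-group. -/
theorem isPGroup_zpowers {g : G} (hg : orderOf g ∣ 9) : IsPGroup 3 (zpowers g) := by
  obtain ⟨k, -, hk⟩ := (Nat.dvd_prime_pow Nat.prime_three).1 (hg.trans (dvd_of_eq (by norm_num : 9 = 3 ^ 2)))
  exact IsPGroup.of_card (n := k) (by rw [Nat.card_zpowers, hk])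

/-- Conjugate elements of an abelian Sylow subgroup are conjugate in its normaliser. -/
theorem exists_normalizer_of_isConj [Fact (Nat.Prime 3)] (P : Sylow 3 G)
    (hP : IsMulCommutative (P : Subgroup G)) {x y : G} (hx : x ∈ P) (hy : y ∈ P) (h : IsConj x y) :
    ∃ n ∈ normalizer ((P : Subgroup G) : Set G), n * x * n⁻¹ = y := by
  obtain ⟨g, hg⟩ := isConj_iff.1 h
  have hfix : ∀ w ∈ (P : Subgroup G), ∀ z ∈ P, (fun y => z * y * z⁻¹) '' {w} = {w} := by
    intro w hw z hz
    rw [Set.image_singleton, Set.singleton_eq_singleton_iff, mul_inv_eq_iff_eq_mul]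
    exact setLike_mul_comm (S := Subgroup G) hz hw
  obtain ⟨n, hn, he⟩ := CfsgLib.TransferBasic.fusion_normal_subsets P {x} {y} (hfix x hx) (hfix y hy)
    g (by rw [Set.image_singleton, hg])
  exact ⟨n, hn, by rwa [Set.image_singleton, Set.singleton_eq_singleton_iff] at he⟩

/-- An element of an abelian Sylow subgroup fixed by the normaliser is trivial. -/
theorem eq_one_of_fixed [IsSimpleGroup G] (hG : ¬ IsMulCommutative G) [Fact (Nat.Prime 3)]
    (P : Sylow 3 G) (hP : IsMulCommutative (P : Subgroup G)) {x : G} (hx : x ∈ P)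
    (h : ∀ n ∈ normalizer ((P : Subgroup G) : Set G), n * x * n⁻¹ = x) : x = 1 := by
  have hperf : commutator G = ⊤ := by
    rcases Subgroup.Normal.eq_bot_or_eq_top (H := commutator G) inferInstance with h0 | h0
    · refine absurd ⟨⟨fun a b => ?_⟩⟩ hG
      have hmem : ⁅a, b⁆ ∈ commutator G := by
        rw [_root_.commutator_def]
        exact Subgroup.commutator_mem_commutator (mem_top a) (mem_top b)
      rw [h0, mem_bot, commutatorElement_eq_one_iff_mul_comm] at hmem
      exact hmem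
    · exact h0
  obtain ⟨A, -, -, hA⟩ := CfsgLib.TransferBasic.exists_normalizer_complement P
  have hd := (CfsgLib.TransferBasic.focal_disjoint_sup hP).1
  have hfoc : (P : Subgroup G).focalSubgroup = P := by
    rw [← Subgroup.commutator_inf_eq_focalSubgroup, hperf, top_inf_eq]
  rw [hfoc] at hd
  have hxc : x ∈ centralizer (normalizer ((P : Subgroup G) : Set G) : Set G) :=
    mem_centralizer_iff.2 fun n hn => by
      have := h n hn
      rwa [mul_inv_eq_iff_eq_mul] at this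
  exact mem_bot.1 (hd.le ⟨⟨hx, hxc⟩, hx⟩)

/-- A 3-element normalising a Sylow 3-subgroup lies in it. -/
theorem mem_of_normalizes [Fact (Nat.Prime 3)] (P : Sylow 3 G) {n : G} {k : ℕ}
    (hn : n ∈ normalizer ((P : Subgroup G) : Set G)) (hk : n ^ 3 ^ k = 1) : n ∈ P := by
  obtain ⟨j, -, hj⟩ := (Nat.dvd_prime_pow Nat.prime_three).1 (orderOf_dvd_of_pow_eq_one hk)
  have hQ : IsPGroup 3 (zpowers n) := IsPGroup.of_card (n := j) (by rw [Nat.card_zpowers, hj])
  have h : n ∈ zpowers n ⊓ normalizer ((P : Subgroup G) : Set G) := ⟨mem_zpowers n, hn⟩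
  have h' := (hQ.inf_normalizer_sylow P).le h
  exact h'.2

variable {q a b : ℕ}

theorem card_sylow (hq : q.Prime) (hq3 : q ≠ 3) (hcard : Nat.card G = 9 * 2 ^ a * q ^ b)
    [Fact (Nat.Prime 3)] (P : Sylow 3 G) : Nat.card (P : Subgroup G) = 9 := by
  rw [P.card_eq_multiplicity, hcard, mul_assoc, Nat.factorization_mul (by norm_num)
    (Nat.mul_ne_zero (by positivity) (pow_ne_zero _ hq.ne_zero)), Finsupp.add_apply,
    Nat.factorization_eq_zero_of_not_dvd (n := 2 ^ a * q ^ b) (p := 3), add_zero,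
    show (9 : ℕ) = 3 ^ 2 by norm_num, Nat.prime_three.factorization_pow, Finsupp.single_eq_same]
  intro h
  rcases Nat.prime_three.dvd_mul.1 h with h | h
  · have := (Nat.prime_dvd_prime_iff_eq Nat.prime_three Nat.prime_two).1
      (Nat.prime_three.dvd_of_dvd_pow h)
    omega
  · exact hq3 ((Nat.prime_dvd_prime_iff_eq Nat.prime_three hq).1
      (Nat.prime_three.dvd_of_dvd_pow h)).symm

theorem sylow_comm (hq : q.Prime) (hq3 : q ≠ 3) (hcard : Nat.card G = 9 * 2 ^ a * q ^ b)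
    [Fact (Nat.Prime 3)] (P : Sylow 3 G) : IsMulCommutative (P : Subgroup G) :=
  IsPGroup.isMulCommutative_of_card_eq_prime_sq (p := 3) (by rw [card_sylow hq hq3 hcard P]; norm_num)

/-- Three pairwise non-conjugate non-identity elements of the Sylow 3-subgroup. -/
theorem exists_three_classes [Fact (Nat.Prime 3)] (P : Sylow 3 G)
    (h3 : 3 ≤ Nat.card {C : ConjClasses G // ∃ g ∈ C.carrier, g ≠ 1 ∧ orderOf g ∣ 9}) :
    ∃ c : Fin 3 → G, (∀ i, c i ∈ P ∧ c i ≠ 1) ∧ ∀ i j, IsConj (c i) (c j) → i = j := by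
  set X := {C : ConjClasses G // ∃ g ∈ C.carrier, g ≠ 1 ∧ orderOf g ∣ 9}
  haveI : Finite X := Nat.finite_of_card_ne_zero (by omega)
  haveI := Fintype.ofFinite X
  obtain ⟨e⟩ : Nonempty (Fin 3 ↪ X) := Function.Embedding.nonempty_of_card_le
    (by rwa [Fintype.card_fin, ← Nat.card_eq_fintype_card])
  have key : ∀ i, ∃ x : G, x ∈ P ∧ x ≠ 1 ∧ ConjClasses.mk x = (e i).1 := by
    intro i
    obtain ⟨g, hg, hg1, hg9⟩ := (e i).2
    obtain ⟨Q, hQ⟩ := (isPGroup_zpowers hg9).exists_le_sylow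
    obtain ⟨w, hw⟩ := MulAction.exists_smul_eq G Q P
    refine ⟨w * g * w⁻¹, ?_, conj_eq_one_iff.not.2 hg1, ?_⟩
    · rw [← hw]
      exact ⟨g, hQ (mem_zpowers g), rfl⟩
    · rw [← ConjClasses.mem_carrier_iff_mk_eq.1 hg]
      exact (ConjClasses.mk_eq_mk_iff_isConj.2 (isConj_iff.2 ⟨w, rfl⟩)).symm
  choose c hc using key
  refine ⟨c, fun i => ⟨(hc i).1, (hc i).2.1⟩, fun i j h => e.injective (Subtype.ext ?_)⟩
  rw [← (hc i).2.2, ← (hc j).2.2, ConjClasses.mk_eq_mk_iff_isConj]
  exact h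

section coords

variable {R : Subgroup G} {f : ZMod 3 × ZMod 3 → G}

theorem coords_zero (hadd : ∀ p q, f (p + q) = f p * f q) : f 0 = 1 := by
  simpa [eq_comm] using hadd 0 0

/-- The matrix of a normalising element. -/
theorem exists_lin (hadd : ∀ p q, f (p + q) = f p * f q) (hinj : Function.Injective f)
    (hmem : ∀ p, f p ∈ R) (hsurj : ∀ x ∈ R, ∃ p, f p = x) {n : G}
    (hn : n ∈ normalizer (R : Set G)) :
    ∃ u v, u.1 * v.2 - u.2 * v.1 ≠ 0 ∧ ∀ p, n * f p * n⁻¹ = f (lin u v p) := by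
  choose F hF using fun p => hsurj _ ((mem_normalizer_iff.1 hn (f p)).1 (hmem p))
  have hFadd : ∀ p q, F (p + q) = F p + F q := fun p q => hinj (by
    rw [hadd, hF, hF, hF, hadd]; group)
  have hlin : ∀ p, F p = lin (F (1, 0)) (F (0, 1)) p := by
    have h0 : F 0 = 0 := by simpa [eq_comm] using hFadd 0 0
    have h2a : F (2, 0) = F (1, 0) + F (1, 0) := by rw [← hFadd]; rfl
    have h2b : F (0, 2) = F (0, 1) + F (0, 1) := by rw [← hFadd]; rfl
    rintro ⟨i, j⟩
    have hij : F (i, j) = F (i, 0) + F (0, j) := by rw [← hFadd]; simp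
    have hi : F (i, 0) = (i * (F (1, 0)).1, i * (F (1, 0)).2) := by
      obtain rfl | rfl | rfl := (show ∀ i : ZMod 3, i = 0 ∨ i = 1 ∨ i = 2 by decide) i
      · simp [← Prod.zero_eq_mk, h0]
      · simp
      · rw [h2a]; ext <;> simp [two_mul]
    have hj : F (0, j) = (j * (F (0, 1)).1, j * (F (0, 1)).2) := by
      obtain rfl | rfl | rfl := (show ∀ i : ZMod 3, i = 0 ∨ i = 1 ∨ i = 2 by decide) j
      · simp [← Prod.zero_eq_mk, h0]
      · simp
      · rw [h2b]; ext <;> simp [two_mul]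
    rw [hij, hi, hj]
    rfl
  refine ⟨F (1, 0), F (0, 1), fun hdet => ?_, fun p => by rw [← hlin, hF]⟩
  have hinjF : Function.Injective F := fun p q h => hinj (by
    have := hF p ▸ hF q ▸ congrArg f h
    simpa using this)
  have hinj' : Function.Injective (lin (F (1, 0)) (F (0, 1))) := fun p q h =>
    hinjF (by rw [hlin p, hlin q, h])
  exact (show ∀ u v : ZMod 3 × ZMod 3, u.1 * v.2 - u.2 * v.1 = 0 →
    ∃ p, p ≠ 0 ∧ lin u v p = lin u v 0 by decide +kernel) _ _ hdet |>.elim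
      fun p hp => hp.1 (hinj' hp.2)

theorem conj_pow_apply {n : G} {M : ZMod 3 × ZMod 3 → ZMod 3 × ZMod 3}
    (hM : ∀ p, n * f p * n⁻¹ = f (M p)) (k : ℕ) (p : ZMod 3 × ZMod 3) :
    n ^ k * f p * (n ^ k)⁻¹ = f (M^[k] p) := by
  induction k with
  | zero => simp
  | succ k ih =>
    rw [pow_succ', Function.iterate_succ_apply', ← hM, ← ih]
    group

end coords

/-- In the cyclic case the action is inversion. -/
theorem cyclic_act [Fact (Nat.Prime 3)] (hq : q.Prime) (hq3 : q ≠ 3)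
    (hcard : Nat.card G = 9 * 2 ^ a * q ^ b) (P : Sylow 3 G)
    (hP : IsMulCommutative (P : Subgroup G)) {r : G} (hr : r ∈ P) (hord : orderOf r = 9) {n : G}
    (hn : n ∈ normalizer ((P : Subgroup G) : Set G)) :
    (∀ x ∈ P, n * x * n⁻¹ = x) ∨ (∀ x ∈ P, n * x * n⁻¹ = x⁻¹) := by
  have htop : (P : Subgroup G) = zpowers r := (eq_of_le_of_card_ge (zpowers_le.2 hr)
    (by rw [card_sylow hq hq3 hcard P, Nat.card_zpowers, hord])).symm
  obtain ⟨c, hc⟩ : n * r * n⁻¹ ∈ zpowers r := htop.le ((mem_normalizer_iff.1 hn r).1 hr)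
  have hc' : n * r * n⁻¹ = r ^ c := hc.symm
  have hpow : ∀ k : ℕ, n ^ k * r * (n ^ k)⁻¹ = r ^ (c ^ k) := by
    intro k
    induction k with
    | zero => simp
    | succ k ih =>
      rw [pow_succ' c, zpow_mul, ← hc', conj_zpow, ← ih, pow_succ']
      group
  set m := 2 ^ a * q ^ b
  have h3 : (n ^ m) ^ 3 ^ 2 = 1 := by
    rw [← pow_mul, show m * 3 ^ 2 = Nat.card G by rw [hcard]; ring, pow_card_eq_one']
  have hmem := mem_of_normalizes P (pow_mem hn m) h3
  have hfix : r ^ (c ^ m) = r ^ (1 : ℤ) := by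
    rw [← hpow, zpow_one, setLike_mul_comm (S := Subgroup G) hmem hr, mul_inv_cancel_right]
  rw [zpow_eq_zpow_iff_modEq, hord] at hfix
  have hz : (c : ZMod 9) ^ m = 1 := by
    have := (ZMod.intCast_eq_intCast_iff _ _ 9).2 hfix
    exact_mod_cast this
  have hm0 : m ≠ 0 := Nat.mul_ne_zero (by positivity) (pow_ne_zero _ hq.ne_zero)
  have h6 : (c : ZMod 9) ^ 6 = 1 := by
    have hu : IsUnit (c : ZMod 9) := IsUnit.of_pow_eq_one hz hm0
    exact (show ∀ x : ZMod 9, (∃ y, x * y = 1) → x ^ 6 = 1 by decide +kernel) _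
      hu.exists_right_inv
  have h2 : (c : ZMod 9) ^ 2 = 1 := by
    have hg := pow_gcd_eq_one.2 ⟨h6, hz⟩
    have hd : Nat.gcd 6 m ∣ 2 := by
      have hcop : Nat.Coprime 3 m := Nat.Coprime.mul_right
        (Nat.Coprime.pow_right _ (by norm_num))
        (Nat.Coprime.pow_right _ ((Nat.coprime_primes Nat.prime_three hq).2 (Ne.symm hq3)))
      refine Nat.Coprime.dvd_of_dvd_mul_right (k := Nat.gcd 6 m) (n := 3) ?_ ?_
      · exact (Nat.Coprime.coprime_dvd_right (Nat.gcd_dvd_right 6 m) hcop).symm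
      · exact (Nat.gcd_dvd_left 6 m).trans (by norm_num)
    obtain ⟨e, he⟩ := hd
    rw [he, pow_mul, hg, one_pow]
  have hval : ∀ d : ℤ, (c : ZMod 9) = (d : ZMod 9) → n * r * n⁻¹ = r ^ d := fun d hd => by
    rw [hc', zpow_eq_zpow_iff_modEq, hord]
    exact (ZMod.intCast_eq_intCast_iff _ _ 9).1 hd
  rcases (show ∀ x : ZMod 9, x ^ 2 = 1 → x = 1 ∨ x = -1 by decide +kernel) _ h2 with h | h
  · left
    intro x hx
    obtain ⟨k, rfl⟩ := mem_zpowers_iff.1 (htop.le hx)
    rw [← conj_zpow, hval 1 (by simpa using h), zpow_one]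
  · right
    intro x hx
    obtain ⟨k, rfl⟩ := mem_zpowers_iff.1 (htop.le hx)
    rw [← conj_zpow, hval (-1) (by simpa using h), zpow_neg_one, inv_zpow]

/-- An action by the identity and inversion gives inverted fusion. -/
theorem invFusion_of_act [IsSimpleGroup G] (hG : ¬ IsMulCommutative G) [Fact (Nat.Prime 3)]
    (P : Sylow 3 G) (h9 : Nat.card (P : Subgroup G) = 9) (hP : IsMulCommutative (P : Subgroup G))
    (hact : ∀ n ∈ normalizer ((P : Subgroup G) : Set G),
      (∀ x ∈ P, n * x * n⁻¹ = x) ∨ (∀ x ∈ P, n * x * n⁻¹ = x⁻¹)) :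
    InvFusion (P : Subgroup G) := by
  refine ⟨hact, ?_, fun x hx y hy h => ?_⟩
  · by_contra hno
    push Not at hno
    obtain ⟨x, hx, hx1⟩ : ∃ x ∈ (P : Subgroup G), x ≠ 1 := by
      by_contra hc
      push Not at hc
      rw [(eq_bot_iff_forall _).2 hc, card_bot] at h9
      omega
    refine hx1 (eq_one_of_fixed hG P hP hx fun n hn => ?_)
    rcases hact n hn with h | h
    · exact h x hx
    · obtain ⟨z, hz, hz'⟩ := hno n hn
      exact absurd (h z hz) hz'
  · obtain ⟨n, hn, rfl⟩ := exists_normalizer_of_isConj P hP hx hy h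
    rcases hact n hn with h | h
    · exact Or.inl (h x hx)
    · exact Or.inr (h x hx)

/-- **The two possible actions of the normaliser.** -/
theorem fusion_cases [IsSimpleGroup G] (hG : ¬ IsMulCommutative G) [Fact (Nat.Prime 3)]
    (hq : q.Prime) (hq3 : q ≠ 3) (hcard : Nat.card G = 9 * 2 ^ a * q ^ b) (P : Sylow 3 G)
    (h3 : 3 ≤ Nat.card {C : ConjClasses G // ∃ g ∈ C.carrier, g ≠ 1 ∧ orderOf g ∣ 9}) :
    InvFusion (P : Subgroup G) ∨ ∃ f, FourFusion (P : Subgroup G) f := by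
  classical
  have h9 := card_sylow hq hq3 hcard P
  have hP := sylow_comm hq hq3 hcard P
  have mk : (∀ n ∈ normalizer ((P : Subgroup G) : Set G),
      (∀ x ∈ P, n * x * n⁻¹ = x) ∨ (∀ x ∈ P, n * x * n⁻¹ = x⁻¹)) → InvFusion (P : Subgroup G) :=
    invFusion_of_act hG P h9 hP
  by_cases hcyc : ∃ r ∈ (P : Subgroup G), orderOf r = 9
  · obtain ⟨r, hr, hord⟩ := hcyc
    exact Or.inl (mk fun n hn => cyclic_act hq hq3 hcard P hP hr hord hn)
  push Not at hcyc
  have hcube : ∀ x ∈ (P : Subgroup G), x ^ 3 = 1 := by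
    intro x hx
    have hd : orderOf x ∣ 3 ^ 2 := by
      rw [show 3 ^ 2 = Nat.card (P : Subgroup G) by rw [h9]; norm_num]
      exact Subgroup.orderOf_dvd_natCard _ hx
    obtain ⟨k, hk, hk'⟩ := (Nat.dvd_prime_pow Nat.prime_three).1 hd
    refine orderOf_dvd_iff_pow_eq_one.1 (hk' ▸ ?_)
    interval_cases k
    · norm_num
    · norm_num
    · exact absurd hk' (by simpa using hcyc x hx)
  -- coordinates
  obtain ⟨u, hu, hu1⟩ : ∃ x ∈ (P : Subgroup G), x ≠ 1 := by
    by_contra hc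
    push Not at hc
    rw [(eq_bot_iff_forall _).2 hc, card_bot] at h9
    omega
  obtain ⟨v, hv, hvu⟩ : ∃ v ∈ (P : Subgroup G), v ∉ zpowers u := by
    by_contra hc
    push Not at hc
    have hle := Subgroup.card_le_of_le (show (P : Subgroup G) ≤ zpowers u from hc)
    rw [h9, Nat.card_zpowers] at hle
    have := Nat.le_of_dvd (by norm_num) (orderOf_dvd_of_pow_eq_one (hcube u hu))
    omega
  have hcm : ∀ x ∈ (P : Subgroup G), ∀ y ∈ (P : Subgroup G), Commute x y := fun x hx y hy =>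
    setLike_mul_comm (S := Subgroup G) hx hy
  set f₀ : ZMod 3 × ZMod 3 → G := fun p => u ^ p.1.val * v ^ p.2.val
  have hmem₀ : ∀ p, f₀ p ∈ (P : Subgroup G) := fun p => mul_mem (pow_mem hu _) (pow_mem hv _)
  have hadd₀ : ∀ p q, f₀ (p + q) = f₀ p * f₀ q := by
    intro p q
    have hp : ∀ w ∈ (P : Subgroup G), ∀ i j : ZMod 3, w ^ (i + j).val = w ^ i.val * w ^ j.val := by
      intro w hw i j
      rw [← pow_add, ZMod.val_add, ← pow_mod_orderOf, eq_comm, ← pow_mod_orderOf]
      congr 1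
      exact (Nat.ModEq.of_dvd (orderOf_dvd_of_pow_eq_one (hcube w hw)) (Nat.mod_modEq _ 3)).symm
    simp only [f₀, Prod.fst_add, Prod.snd_add, hp u hu, hp v hv]
    exact Commute.mul_mul_mul_comm (hcm _ (pow_mem hu _) _ (pow_mem hv _)) _ _
  have hinj₀ : Function.Injective f₀ := by
    intro p q e
    by_contra hne
    have e0 : f₀ (p - q) = 1 := by
      have := hadd₀ (p - q) q
      rwa [sub_add_cancel, e, eq_comm, mul_eq_right] at this
    rcases hpq : p - q with ⟨i, j⟩
    have hne' : (i, j) ≠ (0, 0) := fun h => hne (sub_eq_zero.1 (hpq.trans h))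
    rw [hpq] at e0
    have hj : j = 0 := by
      by_contra hj
      have h2 : v ^ j.val ∈ zpowers u := by
        rw [eq_inv_of_mul_eq_one_right e0]
        exact inv_mem (npow_mem_zpowers u _)
      rcases (show ∀ j : ZMod 3, j ≠ 0 → j.val = 1 ∨ j.val = 2 by decide) j hj with h | h <;>
        rw [h] at h2
      · exact hvu (by simpa using h2)
      · have h4 := mul_mem h2 h2
        rw [← pow_add, show (2 + 2 : ℕ) = 3 + 1 from rfl, pow_succ, hcube v hv, one_mul] at h4
        exact hvu h4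
    subst hj
    simp only [f₀, ZMod.val_zero, pow_zero, mul_one] at e0
    have hi : i ≠ 0 := fun h => hne' (by rw [h])
    have ho : orderOf u = 3 := orderOf_eq_prime (hcube u hu) hu1
    have := orderOf_dvd_of_pow_eq_one e0
    rw [ho] at this
    exact hi ((ZMod.val_eq_zero i).1 (Nat.eq_zero_of_dvd_of_lt this (ZMod.val_lt i)))
  have hsurj₀ : ∀ x ∈ (P : Subgroup G), ∃ p, f₀ p = x := by
    intro x hx
    have hb : Function.Bijective (fun p => (⟨f₀ p, hmem₀ p⟩ : (P : Subgroup G))) :=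
      (Nat.bijective_iff_injective_and_card _).2
        ⟨fun p q e => hinj₀ (congrArg Subtype.val e), by rw [h9]; simp⟩
    obtain ⟨p, hp⟩ := hb.2 ⟨x, hx⟩
    exact ⟨p, congrArg Subtype.val hp⟩
  -- every matrix is an involution
  obtain ⟨c, hc, hcc⟩ := exists_three_classes P h3
  have hinvol : ∀ n ∈ normalizer ((P : Subgroup G) : Set G), ∀ u' v' : ZMod 3 × ZMod 3,
      u'.1 * v'.2 - u'.2 * v'.1 ≠ 0 → (∀ p, n * f₀ p * n⁻¹ = f₀ (lin u' v' p)) →
      lin u' v' u' = (1, 0) ∧ lin u' v' v' = (0, 1) := by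
    intro n hn u' v' hdet hM
    set M := lin u' v'
    set m := 2 ^ a * q ^ b
    have h3m : (n ^ m) ^ 3 ^ 2 = 1 := by
      rw [← pow_mul, show m * 3 ^ 2 = Nat.card G by rw [hcard]; ring, pow_card_eq_one']
    have hmem := mem_of_normalizes P (pow_mem hn m) h3m
    have hper : ∀ p, Function.IsPeriodicPt M m p := fun p => hinj₀ (by
      rw [← conj_pow_apply hM, setLike_mul_comm (S := Subgroup G) hmem (hmem₀ p),
        mul_inv_cancel_right])
    have hcop : Nat.Coprime 3 m := Nat.Coprime.mul_right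
      (Nat.Coprime.pow_right _ (by norm_num))
      (Nat.Coprime.pow_right _ ((Nat.coprime_primes Nat.prime_three hq).2 (Ne.symm hq3)))
    obtain ⟨e, he⟩ : Nat.gcd 48 m ∣ 16 := by
      refine Nat.Coprime.dvd_of_dvd_mul_right (n := 3) ?_ ?_
      · exact (Nat.Coprime.coprime_dvd_right (Nat.gcd_dvd_right 48 m) hcop).symm
      · exact (Nat.gcd_dvd_left 48 m).trans (by norm_num)
    obtain ⟨h48a, h48b⟩ := lin_pow_forty_eight u' v' hdet
    have h16 : ∀ p, Function.IsPeriodicPt M 48 p → M^[16] p = p := fun p hp => by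
      have := ((hp.gcd (hper p)).mul_const e).eq
      rwa [← he] at this
    rcases lin_cases u' v' hdet (h16 _ h48a) (h16 _ h48b) with h | h
    · exact h
    exfalso
    choose π hπ using fun i => hsurj₀ _ (hc i).1
    have hπ0 : ∀ i, π i ≠ 0 := fun i e => (hc i).2 (by rw [← hπ, e, coords_zero hadd₀])
    let O : Fin 3 × Fin 4 → {p : ZMod 3 × ZMod 3 // p ≠ 0} := fun x =>
      ⟨M^[(x.2 : ℕ)] (π x.1), fun e => (hc x.1).2 (by
        have h1 := conj_pow_apply hM x.2 (π x.1)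
        rw [e, coords_zero hadd₀, hπ] at h1
        exact conj_eq_one_iff.1 h1)⟩
    have hO : Function.Injective O := by
      rintro ⟨i, k⟩ ⟨j, l⟩ e
      have e' : M^[(k : ℕ)] (π i) = M^[(l : ℕ)] (π j) := congrArg Subtype.val e
      have hij : i = j := hcc i j (by
        have h1 : IsConj (c i) (n ^ (k : ℕ) * c i * (n ^ (k : ℕ))⁻¹) :=
          isConj_iff.2 ⟨n ^ (k : ℕ), rfl⟩
        have h2 : IsConj (c j) (n ^ (l : ℕ) * c j * (n ^ (l : ℕ))⁻¹) :=
          isConj_iff.2 ⟨n ^ (l : ℕ), rfl⟩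
        have h3 : n ^ (k : ℕ) * c i * (n ^ (k : ℕ))⁻¹ = n ^ (l : ℕ) * c j * (n ^ (l : ℕ))⁻¹ := by
          rw [← hπ, ← hπ, conj_pow_apply hM, conj_pow_apply hM, e']
        exact (h3 ▸ h1).trans h2.symm)
      subst hij
      obtain ⟨o1, o2, o3, o4, o5, o6⟩ := h (π i) (hπ0 i)
      simp only [Prod.mk.injEq, true_and]
      fin_cases k <;> fin_cases l <;>
        first
        | rfl
        | (simp only [Function.iterate_succ_apply', Function.iterate_zero_apply] at e'
           first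
           | exact absurd e' o1 | exact absurd e' o2 | exact absurd e' o3
           | exact absurd e' o4 | exact absurd e' o5 | exact absurd e' o6
           | exact absurd e'.symm o1 | exact absurd e'.symm o2 | exact absurd e'.symm o3
           | exact absurd e'.symm o4 | exact absurd e'.symm o5 | exact absurd e'.symm o6)
    have := Fintype.card_le_of_injective O hO
    simp [Fintype.card_subtype_compl] at this
  by_cases hall : ∀ n ∈ normalizer ((P : Subgroup G) : Set G),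
      (∀ x ∈ P, n * x * n⁻¹ = x) ∨ (∀ x ∈ P, n * x * n⁻¹ = x⁻¹)
  · exact Or.inl (mk hall)
  push Not at hall
  obtain ⟨s, hs, hs1, hs2⟩ := hall
  obtain ⟨us, vs, hdets, hMs⟩ := exists_lin hadd₀ hinj₀ hmem₀ hsurj₀ hs
  obtain ⟨hi1, hi2⟩ := hinvol s hs us vs hdets hMs
  have hneg₀ : ∀ p, f₀ (-p) = (f₀ p)⁻¹ := fun p => eq_inv_of_mul_eq_one_left (by
    rw [← hadd₀, neg_add_cancel, coords_zero hadd₀])
  obtain ⟨e, w, hew, he, hw⟩ : ∃ e w : ZMod 3 × ZMod 3, e.1 * w.2 - e.2 * w.1 ≠ 0 ∧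
      lin us vs e = e ∧ lin us vs w = -w := by
    rcases lin_involution us vs hi1 hi2 with ⟨rfl, rfl⟩ | ⟨rfl, rfl⟩ | h
    · obtain ⟨x, hx, hx'⟩ := hs1
      obtain ⟨p, rfl⟩ := hsurj₀ x hx
      exact absurd (by rw [hMs]; congr 1; simp [lin]) hx'
    · obtain ⟨x, hx, hx'⟩ := hs2
      obtain ⟨p, rfl⟩ := hsurj₀ x hx
      exact absurd (by rw [hMs, ← hneg₀]; congr 1; ext <;> simp [lin]) hx'
    · exact h
  -- new coordinates in which `s` is diagonal
  set f : ZMod 3 × ZMod 3 → G := fun p => f₀ (lin e w p)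
  have hlinadd : ∀ p q, lin e w (p + q) = lin e w p + lin e w q := fun p q => by
    ext <;> simp [lin] <;> ring
  have hbij : Function.Bijective (lin e w) :=
    (show ∀ e w : ZMod 3 × ZMod 3, e.1 * w.2 - e.2 * w.1 ≠ 0 → Function.Bijective (lin e w) by
      decide +kernel) e w hew
  have hadd : ∀ p q, f (p + q) = f p * f q := fun p q => by simp only [f, hlinadd, hadd₀]
  have hinj : Function.Injective f := hinj₀.comp hbij.1
  have hmem : ∀ p, f p ∈ (P : Subgroup G) := fun p => hmem₀ _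
  have hsurj : ∀ x ∈ (P : Subgroup G), ∃ p, f p = x := fun x hx => by
    obtain ⟨p, rfl⟩ := hsurj₀ x hx
    obtain ⟨p', rfl⟩ := hbij.2 p
    exact ⟨p', rfl⟩
  have hsd : ∀ p, s * f p * s⁻¹ = f (lin (1, 0) (0, -1) p) := by
    intro p
    simp only [f]
    rw [hMs]
    congr 1
    obtain ⟨i, j⟩ := p
    have h1 : lin us vs (lin e w (i, j)) =
        (i * (lin us vs e).1 + j * (lin us vs w).1, i * (lin us vs e).2 + j * (lin us vs w).2) := by
      ext <;> simp [lin] <;> ring
    rw [h1, he, hw]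
    ext <;> simp [lin]
  -- all matrices are diagonal
  have hinvol' : ∀ n ∈ normalizer ((P : Subgroup G) : Set G), ∀ p, n * (n * f p * n⁻¹) * n⁻¹ = f p := by
    intro n hn p
    obtain ⟨u', v', hd', hM'⟩ := exists_lin hadd₀ hinj₀ hmem₀ hsurj₀ hn
    obtain ⟨g1, g2⟩ := hinvol n hn u' v' hd' hM'
    simp only [f]
    rw [hM', hM']
    congr 1
    generalize lin e w p = z
    have hz : lin u' v' (lin u' v' z) = (z.1 * (lin u' v' u').1 + z.2 * (lin u' v' v').1,
        z.1 * (lin u' v' u').2 + z.2 * (lin u' v' v').2) := by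
      ext <;> simp [lin] <;> ring
    rw [hz, g1, g2]
    simp
  have hdiag : ∀ n ∈ normalizer ((P : Subgroup G) : Set G), ∃ ε δ : ZMod 3,
      ε * ε = 1 ∧ δ * δ = 1 ∧ ∀ p, n * f p * n⁻¹ = f (ε * p.1, δ * p.2) := by
    intro n hn
    obtain ⟨u', v', hd', hM'⟩ := exists_lin hadd hinj hmem hsurj hn
    have hsq : ∀ p, lin u' v' (lin u' v' p) = p := fun p => hinj (by
      rw [← hM', ← hM']; exact hinvol' n hn p)
    have hns : ∀ p, lin u' v' (lin (1, 0) (0, -1) (lin u' v' (lin (1, 0) (0, -1) p))) = p := by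
      intro p
      refine hinj ?_
      rw [← hM', ← hsd, ← hM', ← hsd]
      have := hinvol' (n * s) (mul_mem hn hs) p
      simpa [mul_assoc] using this
    obtain ⟨ε, δ, hε, hδ, rfl, rfl⟩ := lin_commuting u' v' (by simpa [lin] using hsq (1, 0))
      (by simpa [lin] using hsq (0, 1)) (by simpa [lin] using hns (1, 0)) (hns (0, 1))
    exact ⟨ε, δ, hε, hδ, fun p => by rw [hM']; congr 1; ext <;> simp [lin, mul_comm]⟩
  -- the reflection fixing the second axis
  obtain ⟨t, ht, htd⟩ : ∃ t ∈ normalizer ((P : Subgroup G) : Set G),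
      ∀ p, t * f p * t⁻¹ = f (-1 * p.1, 1 * p.2) := by
    obtain ⟨n, hn, hne⟩ : ∃ n ∈ normalizer ((P : Subgroup G) : Set G),
        n * f (1, 0) * n⁻¹ ≠ f (1, 0) := by
      by_contra hc'
      push Not at hc'
      have h1 := eq_one_of_fixed hG P hP (hmem (1, 0)) hc'
      rw [← coords_zero hadd] at h1
      exact absurd (hinj h1) (by decide)
    obtain ⟨ε, δ, hε, hδ, hn'⟩ := hdiag n hn
    have hε' : ε = -1 := by
      rcases (show ∀ x : ZMod 3, x * x = 1 → x = 1 ∨ x = -1 by decide) ε hε with rfl | rfl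
      · exact absurd (by rw [hn']; simp) hne
      · rfl
    subst hε'
    rcases (show ∀ x : ZMod 3, x * x = 1 → x = 1 ∨ x = -1 by decide) δ hδ with rfl | rfl
    · exact ⟨n, hn, hn'⟩
    · refine ⟨n * s, mul_mem hn hs, fun p => ?_⟩
      rw [show n * s * f p * (n * s)⁻¹ = n * (s * f p * s⁻¹) * n⁻¹ by group, hsd, hn']
      congr 1
      ext <;> simp [lin]
  have hsd' : ∀ p, s * f p * s⁻¹ = f (1 * p.1, -1 * p.2) := fun p => by
    rw [hsd]; congr 1; ext <;> simp [lin]
  refine Or.inr ⟨f, ⟨hadd, hinj, hmem, hsurj, hdiag, fun ε δ hε hδ => ?_, fun p r h => ?_⟩⟩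
  · rcases (show ∀ x : ZMod 3, x * x = 1 → x = 1 ∨ x = -1 by decide) ε hε with rfl | rfl <;>
      rcases (show ∀ x : ZMod 3, x * x = 1 → x = 1 ∨ x = -1 by decide) δ hδ with rfl | rfl
    · exact ⟨1, one_mem _, fun p => by simp⟩
    · exact ⟨s, hs, hsd'⟩
    · exact ⟨t, ht, htd⟩
    · refine ⟨t * s, mul_mem ht hs, fun p => ?_⟩
      rw [show t * s * f p * (t * s)⁻¹ = t * (s * f p * s⁻¹) * t⁻¹ by group, hsd', htd]
      congr 1
      ext <;> simp
  · obtain ⟨n, hn, hn'⟩ := exists_normalizer_of_isConj P hP (hmem p) (hmem r) h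
    obtain ⟨ε, δ, hε, hδ, hn''⟩ := hdiag n hn
    exact ⟨ε, δ, hε, hδ, hinj (by rw [← hn', hn''])⟩

/-! ### Centralisers with a normal complement -/

/-- An element of the Sylow subgroup whose centraliser meets the normaliser in the centraliser of
the Sylow subgroup has a 3-nilpotent centraliser. -/
theorem core_index [Fact (Nat.Prime 3)] (P : Sylow 3 G) (h9 : Nat.card (P : Subgroup G) = 9)
    (hP : IsMulCommutative (P : Subgroup G)) {x : G} (hx : x ∈ P)
    (h : ∀ n ∈ normalizer ((P : Subgroup G) : Set G), n * x * n⁻¹ = x →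
      ∀ y ∈ P, n * y * n⁻¹ = y) :
    (Cfsg.pPrimeCore 3 (centralizer ({x} : Set G))).index = 3 ^ 2 := by
  set C := centralizer ({x} : Set G)
  have hle : (P : Subgroup G) ≤ C := fun y hy => mem_centralizer_singleton_iff.2
    (setLike_mul_comm (S := Subgroup G) hy hx)
  set Q : Sylow 3 C := P.subtype hle
  have hQ : (Q : Subgroup C) = (P : Subgroup G).subgroupOf C := rfl
  have hQc : IsMulCommutative (Q : Subgroup C) := by
    refine ⟨⟨fun u w => Subtype.ext (Subtype.ext ?_)⟩⟩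
    exact setLike_mul_comm (S := Subgroup G) (show ((u : C) : G) ∈ (P : Subgroup G) from u.2)
      (show ((w : C) : G) ∈ (P : Subgroup G) from w.2)
  obtain ⟨Q', N, hN, hcompl⟩ : Cfsg.HasNormalPComplement 3 C := by
    refine CfsgLib.TransferBasic.hasNormalPComplement_of_abelian (P := Q) hQc fun n hn _ => ?_
    have hn' : (n : G) ∈ normalizer ((P : Subgroup G) : Set G) := by
      rw [mem_normalizer_iff]
      intro y
      constructor
      · intro hy
        exact (mem_normalizer_iff.1 hn ⟨y, hle hy⟩).1 hy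
      · intro hy
        have hyC : y ∈ C := by
          have : ((n : G)⁻¹ * ((n : G) * y * (n : G)⁻¹) * (n : G)) ∈ C :=
            mul_mem (mul_mem (inv_mem n.2) (hle hy)) n.2
          simpa [mul_assoc] using this
        exact (mem_normalizer_iff.1 hn ⟨y, hyC⟩).2 hy
    refine mem_centralizer_iff.2 fun y hy => Subtype.ext ?_
    have hfix := h (n : G) hn' (by rw [mem_centralizer_singleton_iff.1 n.2, mul_inv_cancel_right])
      (y : G) hy
    rw [mul_inv_eq_iff_eq_mul] at hfix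
    exact hfix.symm
  have hidx : N.index = 9 := by
    have h1 := hcompl.symm.index_eq_card
    have hQ'card : Nat.card (Q' : Subgroup C) = 9 := by
      rw [Q'.card_eq_multiplicity, ← Q.card_eq_multiplicity, hQ,
        Nat.card_congr (subgroupOfEquivOfLe hle).toEquiv, h9]
    rw [hQ'card] at h1
    exact h1
  have hNcop : (Nat.card N).Coprime 3 := by
    rw [Nat.coprime_comm, Nat.prime_three.coprime_iff_not_dvd]
    intro hd
    have hmul := N.card_mul_index
    rw [hidx] at hmul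
    have h27 : 3 ^ 3 ∣ Nat.card C := by
      obtain ⟨k, hk⟩ := hd
      exact ⟨k, by rw [← hmul, hk]; ring⟩
    obtain ⟨S, hS⟩ := Sylow.exists_subgroup_card_pow_prime 3 h27
    obtain ⟨S', hS'⟩ := (IsPGroup.of_card hS).exists_le_sylow
    have := Subgroup.card_le_of_le hS'
    rw [hS, S'.card_eq_multiplicity, ← Q.card_eq_multiplicity, hQ,
      Nat.card_congr (subgroupOfEquivOfLe hle).toEquiv, h9] at this
    norm_num at this
  have hle' : N ≤ Cfsg.pPrimeCore 3 C := le_sSup ⟨hN, hNcop⟩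
  have hdvd := Subgroup.index_dvd_of_le hle'
  rw [hidx] at hdvd
  have hcop := CfsgLib.Solvable.coprime_card_pPrimeCore (G := C) 3
  have h9d : 9 ∣ (Cfsg.pPrimeCore 3 C).index := by
    refine Nat.Coprime.dvd_of_dvd_mul_left (m := Nat.card (Cfsg.pPrimeCore 3 C)) ?_ ?_
    · have := (Nat.Coprime.pow_right 2 hcop).symm
      simpa using this
    · rw [Subgroup.card_mul_index, ← N.card_mul_index, hidx]
      exact Dvd.intro_left _ rfl
  rw [Nat.dvd_antisymm hdvd h9d]
  norm_num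

/-- Elements of order prime to `3` of such a centraliser lie in the core. -/
theorem mem_core [Fact (Nat.Prime 3)] {x : G}
    (hidx : (Cfsg.pPrimeCore 3 (centralizer ({x} : Set G))).index = 3 ^ 2)
    {y : centralizer ({x} : Set G)} (hy : ¬ 3 ∣ orderOf y) :
    y ∈ Cfsg.pPrimeCore 3 (centralizer ({x} : Set G)) := by
  set N := Cfsg.pPrimeCore 3 (centralizer ({x} : Set G))
  haveI : N.Normal := CfsgLib.Solvable.pPrimeCore_normal 3
  rw [← QuotientGroup.eq_one_iff]
  have h1 : orderOf (y : centralizer ({x} : Set G) ⧸ N) ∣ orderOf y :=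
    orderOf_map_dvd (QuotientGroup.mk' N) y
  have h2 : orderOf (y : centralizer ({x} : Set G) ⧸ N) ∣ 3 ^ 2 := by
    rw [← hidx]
    exact orderOf_dvd_natCard _
  exact orderOf_eq_one_iff.1 (Nat.eq_one_of_dvd_coprimes
    (Nat.Coprime.pow_right 2 ((Nat.prime_three.coprime_iff_not_dvd.2 hy).symm)) h1 h2)

end CfsgLib.NineTwo
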