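import Cfsg.Agent.S3784

/-!
# Consecutive degrees
-/

set_option autoImplicit false

namespace CfsgLib.NineTwo

variable {q a b : ℕ}

theorem dvd_primes (hq : q.Prime) {x : ℕ} (hx : x ∣ 9 * 2 ^ a * q ^ b) (hx3 : ¬ 3 ∣ x) :
    ∃ i j, x = 2 ^ i * q ^ j := by
  have hcop : x.Coprime 9 := by
    rw [show (9 : ℕ) = 3 ^ 2 by norm_num]
    exact Nat.Coprime.pow_right 2 ((Nat.prime_three.coprime_iff_not_dvd.2 hx3).symm)
  rw [mul_assoc] at hx
  obtain ⟨u, v, hu, hv, rfl⟩ := Nat.dvd_mul.1 (hcop.dvd_of_dvd_mul_left hx)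
  obtain ⟨i, -, rfl⟩ := (Nat.dvd_prime_pow Nat.prime_two).1 hu
  obtain ⟨j, -, rfl⟩ := (Nat.dvd_prime_pow hq).1 hv
  exact ⟨i, j, rfl⟩

/-- Two consecutive `{2, q}`-numbers: a power of two and `q`. -/
theorem consecutive (hq : q.Prime) (hq2 : q ≠ 2) (hq3 : q ≠ 3) {x : ℕ} (hx2 : 2 ≤ x)
    (hx : x ∣ 9 * 2 ^ a * q ^ b) (hy : x + 1 ∣ 9 * 2 ^ a * q ^ b) (hx3 : ¬ 3 ∣ x)
    (hy3 : ¬ 3 ∣ x + 1) :
    (∃ i, x = 2 ^ i ∧ x + 1 = q) ∨ (∃ i, x = q ∧ x + 1 = 2 ^ i) := by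
  obtain ⟨i, j, hxe⟩ := dvd_primes hq hx hx3
  obtain ⟨k, l, hye⟩ := dvd_primes hq hy hy3
  have hnot : ∀ r : ℕ, r.Prime → r ∣ x → ¬ r ∣ x + 1 := fun r hr h h' =>
    hr.not_dvd_one ((Nat.dvd_add_right h).1 h')
  have hqodd : ∀ m, ¬ 2 ∣ q ^ m := fun m h =>
    hq2 ((Nat.prime_dvd_prime_iff_eq Nat.prime_two hq).1 (Nat.prime_two.dvd_of_dvd_pow h)).symm
  rcases Nat.eq_zero_or_pos i with rfl | hi
  · rw [pow_zero, one_mul] at hxe
    have hj : 1 ≤ j := by
      by_contra h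
      rw [show j = 0 by omega, pow_zero] at hxe
      omega
    have hl : l = 0 := by
      by_contra h
      exact hnot q hq (hxe ▸ dvd_pow_self q (by omega)) (hye ▸ (dvd_pow_self q h).mul_left _)
    subst hl
    rw [pow_zero, mul_one] at hye
    have hk : 1 ≤ k := by
      by_contra h
      rw [show k = 0 by omega, pow_zero] at hye
      omega
    rcases Cfsg.Agent.S3784.result 2 q k j Nat.prime_two hq hk hj (by omega) with
      ⟨-, h, -, -⟩ | ⟨h, -⟩ | ⟨-, h⟩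
    · exact Or.inr ⟨k, by rw [hxe, h, pow_one], hye⟩
    · exact absurd h hq2
    · exact absurd (h ▸ (by norm_num : (2 : ℕ) ∣ 8)) (hqodd j)
  · have h2x : 2 ∣ x := hxe ▸ (dvd_pow_self 2 hi.ne').mul_right _
    have hk : k = 0 := by
      by_contra h
      exact hnot 2 Nat.prime_two h2x (hye ▸ (dvd_pow_self 2 h).mul_right _)
    subst hk
    rw [pow_zero, one_mul] at hye
    have hl : 1 ≤ l := by
      by_contra h
      rw [show l = 0 by omega, pow_zero] at hye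
      omega
    have hj : j = 0 := by
      by_contra h
      exact hnot q hq (hxe ▸ (dvd_pow_self q h).mul_left _) (hye ▸ dvd_pow_self q (by omega))
    subst hj
    rw [pow_zero, mul_one] at hxe
    rcases Cfsg.Agent.S3784.result q 2 l i hq Nat.prime_two hl hi (by omega) with
      ⟨h, -⟩ | ⟨-, h, -, -⟩ | ⟨h, -⟩
    · exact absurd h hq2
    · exact Or.inl ⟨i, hxe, by rw [hye, h, pow_one]⟩
    · exact absurd ((Nat.prime_dvd_prime_iff_eq Nat.prime_three hq).1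
        (Nat.prime_three.dvd_of_dvd_pow (h ▸ (by norm_num : (3 : ℕ) ∣ 9)))).symm hq3

/-- The three possible pairs when `q ≤ 19`. -/
theorem small_pairs (hq : q.Prime) (hq3 : q ≠ 3) (hle : q ≤ 19) {x : ℕ}
    (hx2 : 2 ≤ x) (h : (∃ i, x = 2 ^ i ∧ x + 1 = q) ∨ (∃ i, x = q ∧ x + 1 = 2 ^ i)) :
    (x = 4 ∧ q = 5) ∨ (x = 7 ∧ q = 7) ∨ (x = 16 ∧ q = 17) := by
  rcases h with ⟨i, hi, hiq⟩ | ⟨i, hi, hiq⟩
  · have : i < 5 := by
      by_contra h
      have := Nat.pow_le_pow_right (show 0 < 2 by norm_num) (show 5 ≤ i by omega)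
      omega
    interval_cases i <;> norm_num at hi <;> subst hi <;> first | omega | (subst hiq; norm_num at hq)
  · have : i < 5 := by
      by_contra h
      have := Nat.pow_le_pow_right (show 0 < 2 by norm_num) (show 5 ≤ i by omega)
      omega
    interval_cases i <;> norm_num at hiq <;>
      first | omega | exact absurd hq ((by omega : q = 15) ▸ (by norm_num : ¬ Nat.Prime 15))

end CfsgLib.NineTwo
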