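import Cfsg.Agent.NineTwo.Local
import Cfsg.Agent.Kinf.SectionCount
import Cfsg.Agent.Blocks.LocalPrincipal
import Cfsg.Agent.Blocks.TraceFormula
import Cfsg.Agent.ThreeNine.Chars

/-!
# The columns of the principal 3-block at 3-elements with 3-nilpotent centraliser
-/

set_option autoImplicit false
set_option linter.unusedSectionVars false
set_option linter.style.haveILetI false

namespace CfsgLib.NineTwo

open Finset Cfsg CfsgLib.Block CfsgLib.Block.Chr CfsgLib.Char CfsgLib.SectionCount
open scoped ComplexConjugate Classical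

universe u

variable {G : Type u} [Group G] [Fintype G] [Fintype (IrrCharacter G)]
  {M : Ideal AlgInt} [M.IsPrime]

/-- The principal block as a finite set. -/
noncomputable def prin (G : Type u) [Group G] [Fintype (IrrCharacter G)] (M : Ideal AlgInt) :
    Finset (IrrCharacter G) :=
  univ.filter (· ∈ principalBlock M G)

theorem mem_prin {χ : IrrCharacter G} : χ ∈ prin G M ↔
    χ ∈ principalBlock M G := by
  simp [prin]

/-- The column of the principal block at `x`. -/
theorem col_self (hM : IsPModular 3 M) {x : G} (hx : orderOf x ∣ 9)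
    (hidx : (core 3 x).index = 3 ^ 2) :
    ∑ χ ∈ prin G M, (χ : G → ℂ) x * conj ((χ : G → ℂ) x) = 9 := by
  obtain ⟨k, -, hk⟩ := (Nat.dvd_prime_pow Nat.prime_three).1 (hx.trans (dvd_of_eq (by norm_num : 9 = 3 ^ 2)))
  have h := sum_sq_principal hM hk hidx
  rw [prin]
  convert h using 3
  norm_num

/-- Orthogonality of the principal block at a regular element and at `x`. -/
theorem col_regular (hM : IsPModular 3 M) {x y : G} (hx : orderOf x ∣ 9) (hx1 : x ≠ 1)
    (hy : ¬ 3 ∣ orderOf y) : ∑ χ ∈ prin G M, (χ : G → ℂ) y * conj ((χ : G → ℂ) x) = 0 := by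
  obtain ⟨k, -, hk⟩ := (Nat.dvd_prime_pow Nat.prime_three).1 (hx.trans (dvd_of_eq (by norm_num : 9 = 3 ^ 2)))
  have hd : 3 ∣ orderOf x := by
    rw [hk]
    exact dvd_pow_self 3 fun h0 => hx1 (orderOf_eq_one_iff.1 (by rw [hk, h0, pow_zero]))
  rw [prin]
  convert weak_orth hM (isIntClass_blockCoeff (M := M) (isPBlock_principalBlock (M := M) (G := G))) hy hd using 3

/-- Orthogonality of the principal block at non-conjugate 3-elements. -/
theorem col_pair (hM : IsPModular 3 M) {x y : G} (hx : orderOf x ∣ 9) (hy : orderOf y ∣ 9)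
    (hix : (core 3 x).index = 3 ^ 2) (hiy : (core 3 y).index = 3 ^ 2) (hne : ¬ IsConj x y) :
    ∑ χ ∈ prin G M, (χ : G → ℂ) x * conj ((χ : G → ℂ) y) = 0 := by
  obtain ⟨k, -, hk⟩ := (Nat.dvd_prime_pow Nat.prime_three).1 (hx.trans (dvd_of_eq (by norm_num : 9 = 3 ^ 2)))
  obtain ⟨l, -, hl⟩ := (Nat.dvd_prime_pow Nat.prime_three).1 (hy.trans (dvd_of_eq (by norm_num : 9 = 3 ^ 2)))
  haveI : Fintype (core 3 x) := Fintype.ofFinite _
  haveI : Fintype (core 3 y) := Fintype.ofFinite _
  have h0 : ∑ χ : IrrCharacter G, T 3 x χ * conj (T 3 y χ) = 0 := by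
    simp only [T_eq_sum, map_sum, Finset.sum_mul_sum]
    rw [Finset.sum_comm]
    refine Finset.sum_eq_zero fun v _ => ?_
    rw [Finset.sum_comm]
    refine Finset.sum_eq_zero fun w _ => ?_
    rw [column_orth, if_neg]
    intro hcon
    obtain ⟨c, hc⟩ := isConj_iff.1 hcon
    have hv3 : ¬ 3 ∣ orderOf ((v : Subgroup.centralizer ({x} : Set G)) : G) := by
      rw [Subgroup.orderOf_coe]; exact SectionCount.not_dvd_orderOf Nat.prime_three v.2
    have hw3 : ¬ 3 ∣ orderOf ((w : Subgroup.centralizer ({y} : Set G)) : G) := by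
      rw [Subgroup.orderOf_coe]; exact SectionCount.not_dvd_orderOf Nat.prime_three w.2
    set n := orderOf ((v : Subgroup.centralizer ({x} : Set G)) : G) *
      orderOf ((w : Subgroup.centralizer ({y} : Set G)) : G)
    have hcop : Nat.Coprime 9 n := by
      rw [show (9 : ℕ) = 3 ^ 2 by norm_num]
      exact Nat.Coprime.pow_left _ (Nat.Coprime.mul_right
        (Nat.prime_three.coprime_iff_not_dvd.2 hv3) (Nat.prime_three.coprime_iff_not_dvd.2 hw3))
    obtain ⟨e, he9, hen⟩ := Nat.chineseRemainder hcop 1 0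
    have hne' : n ∣ e := Nat.modEq_zero_iff_dvd.1 hen
    have hpow : ∀ z u : G, Commute z u → orderOf z ∣ 9 → orderOf u ∣ n → (z * u) ^ e = z := by
      intro z u hzu hz hu
      rw [hzu.mul_pow, orderOf_dvd_iff_pow_eq_one.1 (hu.trans hne'), mul_one,
        pow_eq_pow_iff_modEq.2 (Nat.ModEq.of_dvd hz he9), pow_one]
    have e1 := hpow x _ (Subgroup.mem_centralizer_singleton_iff.1
      (v : Subgroup.centralizer ({x} : Set G)).2).symm hx (dvd_mul_right _ _)
    have e2 := hpow y _ (Subgroup.mem_centralizer_singleton_iff.1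
      (w : Subgroup.centralizer ({y} : Set G)).2).symm hy (dvd_mul_left _ _)
    refine hne (isConj_iff.2 ⟨c, ?_⟩)
    rw [← e1, ← conj_pow, hc, e2]
  rw [← Finset.sum_filter_add_sum_filter_not univ (· ∈ principalBlock M G),
    Finset.sum_eq_zero (s := univ.filter fun χ => ¬χ ∈ principalBlock M G) fun χ hχ => by
      rw [T_eq_zero hM hk hix (mem_filter.1 hχ).2, zero_mul], add_zero,
    Finset.sum_congr rfl fun χ hχ => show T 3 x χ * conj (T 3 y χ) =
      ((Nat.card (core 3 x) : ℂ) * Nat.card (core 3 y)) *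
        ((χ : G → ℂ) x * conj ((χ : G → ℂ) y)) by
      rw [T_principal hM hk (mem_filter.1 hχ).2, T_principal hM hl (mem_filter.1 hχ).2, map_mul,
        map_natCast]
      ring,
    ← Finset.mul_sum] at h0
  exact (mul_eq_zero.1 h0).resolve_left (mul_ne_zero (Nat.cast_ne_zero.2 Nat.card_pos.ne')
    (Nat.cast_ne_zero.2 Nat.card_pos.ne'))

/-- A rational value at an element of full defect is non-zero. -/
theorem value_ne_zero (hM : IsPModular 3 M) {χ : IrrCharacter G} (hχ : χ ∈ prin G M)
    {x : G} (hx : ¬ 3 ∣ (Subgroup.centralizer ({x} : Set G)).index) : (χ : G → ℂ) x ≠ 0 := by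
  intro h0
  have h := (mem_prin.1 hχ) x
  rw [centralChar, centralChar, h0, mul_zero, zero_div, sub_zero, mul_one, div_one] at h
  exact hx ((memLocalIdeal_natCast_iff hM).1 h)

/-- The principal character lies in the principal block. -/
theorem one_mem_prin : oneIrr G ∈ prin G M :=
  mem_prin.2 oneIrr_mem_principalBlock

end CfsgLib.NineTwo
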