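import Cfsg.Agent.NineTwo.InvStructure
import Cfsg.Agent.S0996
import Cfsg.Agent.S1011
import Cfsg.Agent.SmallSimple.PSLPrime

/-!
# Recognition of the groups of order 504 and 2448
-/

set_option autoImplicit false
set_option linter.style.haveILetI false

namespace CfsgLib.NineTwo

open Cfsg CfsgLib.Block CfsgLib.Block.Chr CfsgLib.Char CfsgLib.SectionCount

universe u

variable {G : Type u} [Group G] [Finite G] [IsSimpleGroup G]

theorem psl_of_card_504 (h : Nat.card G = 504) :
    ∃ (F : Type) (_ : Field F) (_ : Fintype F), Fintype.card F = 8 ∧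
      Nonempty (G ≃* Matrix.ProjectiveSpecialLinearGroup (Fin 2) F) := by
  haveI : Fact (Nat.Prime 2) := ⟨Nat.prime_two⟩
  letI := Fintype.ofFinite (GaloisField 2 3)
  have hF : Fintype.card (GaloisField 2 3) = 8 := by
    rw [← Nat.card_eq_fintype_card, GaloisField.card 2 3 (by norm_num)]
    norm_num
  exact ⟨GaloisField 2 3, inferInstance, inferInstance, hF, Cfsg.Agent.S1011.result h hF⟩

theorem psl_of_seventeen (hG : ¬ IsMulCommutative G) {a : ℕ}
    (hcard : Nat.card G = 9 * 2 ^ a * 17) (hn : Nat.card (Sylow 17 G) = 18) :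
    Nonempty (G ≃* Matrix.ProjectiveSpecialLinearGroup (Fin 2) (ZMod 17)) := by
  letI := Fintype.ofFinite G
  letI := irrFintype (G := G)
  haveI : Fact (Nat.Prime 17) := ⟨by norm_num⟩
  obtain ⟨z, hz⟩ := exists_prime_orderOf_dvd_card' (G := G) 17 (hcard ▸ dvd_mul_left 17 _)
  rcases Cfsg.Agent.S0996.result (commutator_eq_top hG) 17 z hz
      (centralizer_q (by norm_num) hcard hz) (by rw [hn]; norm_num) with
    ⟨F, _, _, hF, -, ⟨e⟩⟩ | ⟨m, F, _, _, hF, hp, -, ⟨e⟩⟩
  · obtain ⟨f⟩ := CfsgLib.InvChar.psl_congr (FiniteField.ringEquivOfCardEq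
      (show Fintype.card F = Fintype.card (ZMod 17) by rw [hF, ZMod.card]))
    exact ⟨e.trans f⟩
  · exfalso
    have h16 : Fintype.card F = 16 := by omega
    have h := Nat.card_congr e.toEquiv
    have h' := CfsgLib.Linear.Small.card_psl_two (F := F) h16
    rw [← h, hcard] at h'
    norm_num at h'
    omega

theorem psl_of_card_2448 (hG : ¬ IsMulCommutative G) (h : Nat.card G = 2448) :
    Nonempty (G ≃* Matrix.ProjectiveSpecialLinearGroup (Fin 2) (ZMod 17)) := by
  have hcard : Nat.card G = 9 * 2 ^ 4 * 17 := by rw [h]; norm_num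
  haveI : Fact (Nat.Prime 17) := ⟨by norm_num⟩
  refine psl_of_seventeen hG hcard ?_
  let S : Sylow 17 G := default
  have hne : Nat.card (Sylow 17 G) ≠ 1 := fun h1 => by
    haveI := (Nat.card_eq_one_iff_unique.1 h1).1
    have hS : Nat.card (S : Subgroup G) = 17 := by
      refine (CfsgLib.SmallSimple.card_sylow_eq S (k := 1) (m := 144) (by rw [h]; norm_num) ?_).trans
        (pow_one _)
      norm_num
    rcases Subgroup.Normal.eq_bot_or_eq_top (S.normal_of_subsingleton) with h0 | h0
    · rw [h0, Subgroup.card_bot] at hS; omega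
    · rw [h0, Subgroup.card_top, h] at hS; omega
  have hdvd : Nat.card (Sylow 17 G) ∣ 144 := by
    have h1 := S.card_dvd_index
    have h2 := (S : Subgroup G).index_mul_card
    have hS : Nat.card (S : Subgroup G) = 17 :=
      (CfsgLib.SmallSimple.card_sylow_eq S (k := 1) (m := 144) (by rw [h]; norm_num)
        (by norm_num)).trans (pow_one _)
    rw [hS, h] at h2
    have : (S : Subgroup G).index = 144 := by omega
    rwa [this] at h1
  have hmod := card_sylow_modEq_one 17 G
  unfold Nat.ModEq at hmod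
  have hle := Nat.le_of_dvd (by norm_num) hdvd
  generalize Nat.card (Sylow 17 G) = n at *
  interval_cases n <;> first | rfl | omega | (norm_num at hdvd)

/-- The inverted case of the theorem. -/
theorem psl_of_invFusion (hG : ¬ IsMulCommutative G) {q a b : ℕ} [Fact (Nat.Prime 3)] (hq : q.Prime)
    (hq2 : q ≠ 2) (hq3 : q ≠ 3) (hcard : Nat.card G = 9 * 2 ^ a * q ^ b) (P : Sylow 3 G)
    (hfus : InvFusion (P : Subgroup G)) :
    (∃ (F : Type) (_ : Field F) (_ : Fintype F), Fintype.card F = 8 ∧
        Nonempty (G ≃* Matrix.ProjectiveSpecialLinearGroup (Fin 2) F)) ∨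
      Nonempty (G ≃* Matrix.ProjectiveSpecialLinearGroup (Fin 2) (ZMod 17)) := by
  letI := Fintype.ofFinite G
  rcases inv_order hG hq hq2 hq3 hcard P hfus with ⟨-, h⟩ | ⟨-, h⟩
  · exact Or.inl (psl_of_card_504 h)
  · exact Or.inr (psl_of_card_2448 hG h)

end CfsgLib.NineTwo
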