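import Cfsg.Agent.NineTwo.FourChar
import Cfsg.Agent.NineTwo.Recognition
import Cfsg.Agent.BrauerPrime.Orthogonal
import Cfsg.Agent.BrauerPrime.Small
import Cfsg.Agent.LinearPBound.Schur
import Cfsg.Agent.Char.GaloisTwist
import Cfsg.Agent.SmallSimple.OrderBound.SevenTwenty

/-!
# The case of four sign changes forces the group of order 2448
-/

set_option autoImplicit false
set_option linter.unusedSectionVars false
set_option linter.style.haveILetI false

namespace CfsgLib.NineTwo

open Finset Cfsg CfsgLib.Block CfsgLib.Block.Chr CfsgLib.Char CfsgLib.SectionCount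
open CfsgLib.BrauerPrime
open scoped ComplexConjugate Classical

universe u

variable {G : Type u} [Group G] [Fintype G] [Fintype (IrrCharacter G)]

theorem inner_axis {D C D' : IrrCharacter G} {x : ℂ} (hD' : D' ≠ oneIrr G) (hC : C ≠ D')
    (h : classInner (fun g => 1 + (D : G → ℂ) g - (C : G → ℂ) g) (D' : G → ℂ) = x) :
    x = if D = D' then 1 else 0 := by
  have e : (fun g => 1 + (D : G → ℂ) g - (C : G → ℂ) g) =
      ((oneIrr G : G → ℂ) + (D : G → ℂ)) - (C : G → ℂ) := rfl
  rw [e, classInner_sub_left, classInner_add_left, classInner_irr, classInner_irr, classInner_irr,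
    if_neg hD'.symm, if_neg hC, zero_add, sub_zero] at h
  exact h.symm

/-- A character occurring in a function with rational values and one of its degree is rational. -/
theorem axis_rational {F : G → ℂ} {D C : IrrCharacter G} (hD1 : D ≠ oneIrr G)
    (hCD : charDegree (C : G → ℂ) ≠ charDegree (D : G → ℂ))
    (hFfix : ∀ σ : ℂ ≃+* ℂ, ∀ g, σ (F g) = F g)
    (hF : F = fun g => 1 + (D : G → ℂ) g - (C : G → ℂ) g) (σ : ℂ ≃+* ℂ) (g : G) :
    σ ((D : G → ℂ) g) = (D : G → ℂ) g := by
  let D₁ : IrrCharacter G := ⟨fun g => σ ((D : G → ℂ) g), IsIrrCharacter.map_ringEquiv D.2 σ⟩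
  let C₁ : IrrCharacter G := ⟨fun g => σ ((C : G → ℂ) g), IsIrrCharacter.map_ringEquiv C.2 σ⟩
  have hne : ∀ E : IrrCharacter G, E = D → (C : IrrCharacter G) ≠ E := fun E hE e =>
    hCD (by rw [e, hE])
  have hC₁ : C₁ ≠ D := fun e => hCD (by
    have h1 := congrFun (congrArg Subtype.val e) 1
    change σ ((C : G → ℂ) 1) = (D : G → ℂ) 1 at h1
    rw [(irr_one C).1, (irr_one D).1, map_natCast, Nat.cast_inj] at h1
    exact h1)
  have hF₁ : F = fun g => 1 + (D₁ : G → ℂ) g - (C₁ : G → ℂ) g := by
    funext g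
    show F g = 1 + σ ((D : G → ℂ) g) - σ ((C : G → ℂ) g)
    rw [← hFfix σ g, hF, map_sub, map_add, map_one]
  have h1 := inner_axis (x := classInner F (D : G → ℂ)) hD1 (hne D rfl) (by rw [← hF])
  have h2 := inner_axis (x := classInner F (D : G → ℂ)) hD1 hC₁ (by rw [← hF₁])
  rw [h1, if_pos rfl] at h2
  have h3 : D₁ = D := by
    by_contra h
    rw [if_neg h] at h2
    exact one_ne_zero h2
  exact congrFun (congrArg Subtype.val h3) g

theorem two_pow_mod_seven (k : ℕ) : 2 ^ k % 7 = 1 ∨ 2 ^ k % 7 = 2 ∨ 2 ^ k % 7 = 4 := by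
  induction k with
  | zero => norm_num
  | succ k ih => rw [pow_succ]; omega

variable [IsSimpleGroup G]

/-- **The case of four sign changes.** -/
theorem psl_of_fourFusion (hG : ¬ IsMulCommutative G) {q a b : ℕ} [Fact (Nat.Prime 3)]
    (hq : q.Prime) (hq2 : q ≠ 2) (hq3 : q ≠ 3) (hcard : Nat.card G = 9 * 2 ^ a * q ^ b)
    (P : Sylow 3 G) {f : ZMod 3 × ZMod 3 → G} (h : FourFusion (P : Subgroup G) f) :
    Nonempty (G ≃* Matrix.ProjectiveSpecialLinearGroup (Fin 2) (ZMod 17)) := by
  obtain ⟨M, hM⟩ := exists_isPModular Nat.prime_three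
  haveI : M.IsPrime := hM.2.1.isPrime
  have h9 := card_sylow hq hq3 hcard P
  have hP := sylow_comm hq hq3 hcard P
  have hm : ¬ 3 ∣ 2 ^ a * q ^ b := fun hd => by
    rcases Nat.prime_three.dvd_mul.1 hd with h' | h'
    · have := (Nat.prime_dvd_prime_iff_eq Nat.prime_three Nat.prime_two).1
        (Nat.prime_three.dvd_of_dvd_pow h')
      omega
    · exact hq3 ((Nat.prime_dvd_prime_iff_eq Nat.prime_three hq).1
        (Nat.prime_three.dvd_of_dvd_pow h')).symm
  obtain ⟨j, hj, hj1, hj0⟩ := exists_exp (m := 9) (n := 2 ^ a * q ^ b) (by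
    rw [show (9 : ℕ) = 3 ^ 2 by norm_num]
    exact Nat.Coprime.pow_left _ (Nat.prime_three.coprime_iff_not_dvd.2 hm)) (by norm_num)
    (fun h0 => hm (h0 ▸ dvd_zero 3))
  obtain ⟨hb, D, C, hD1, hC1, hDC, hF, hdC, hcases⟩ :=
    h.axis hM hG hq hq2 hq3 hcard hj hj1 hj0
  obtain ⟨-, D', C', hD1', hC1', hDC', hF', hdC', hcases'⟩ :=
    h.swap.axis hM hG hq hq2 hq3 hcard hj hj1 hj0
  subst hb
  have hdeg : charDegree (D' : G → ℂ) = charDegree (D : G → ℂ) := by omega
  have hpair : D ≠ D' ∧ C ≠ C' := by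
    have h1 := h.axis_inner (by rw [hcard, mul_assoc]) hm hj1 hj0 h9 hP
    rw [hF, hF'] at h1
    have e : (fun g => 1 + (D' : G → ℂ) g - (C' : G → ℂ) g) =
        ((oneIrr G : G → ℂ) + (D' : G → ℂ)) - (C' : G → ℂ) := rfl
    have e' : (fun g => 1 + (D : G → ℂ) g - (C : G → ℂ) g) =
        ((oneIrr G : G → ℂ) + (D : G → ℂ)) - (C : G → ℂ) := rfl
    have hDC₁ : D ≠ C' := fun e => by rw [e] at hdC hdeg; omega
    have hCD₁ : C ≠ D' := fun e => by rw [e] at hdC; omega
    rw [e, e'] at h1
    simp only [classInner_sub_left, classInner_add_left, classInner_sub_right, classInner_add_right,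
      classInner_irr, if_neg hD1'.symm, if_neg hC1'.symm, if_neg hD1, if_neg hC1, if_neg hDC₁,
      if_neg hCD₁, if_true] at h1
    constructor <;> rintro rfl
    · by_cases hCC : C = C' <;> simp [hCC] at h1
    · by_cases hDD : D = D' <;> simp [hDD] at h1
  -- the setup at `q`
  haveI := Fact.mk hq
  rw [pow_one] at hcard
  obtain ⟨z, hz⟩ := exists_z hq hcard
  obtain ⟨S, hS⟩ := (IsPGroup.of_card (n := 1) (show Nat.card (Subgroup.zpowers z) = q ^ 1 by
    rw [Nat.card_zpowers, hz, pow_one])).exists_le_sylow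
  have hScard : Nat.card S = q := by
    have hndvd : ¬ q ∣ 9 * 2 ^ a := fun hd => by
      rcases hq.dvd_mul.1 hd with h' | h'
      · exact hq3 ((Nat.prime_dvd_prime_iff_eq hq Nat.prime_three).1
          (hq.dvd_of_dvd_pow (show q ∣ 3 ^ 2 by simpa using h')))
      · exact hq2 ((Nat.prime_dvd_prime_iff_eq hq Nat.prime_two).1 (hq.dvd_of_dvd_pow h'))
    exact (CfsgLib.SmallSimple.card_sylow_eq S (k := 1) (by rw [hcard]; ring) hndvd).trans (pow_one q)
  have hset : Setup G q S := setup_of_simple (fun hc => hG inferInstance) hScard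
  obtain ⟨n, hn⟩ : ∃ n, Nat.card (Sylow q G) = 1 + n * q := by
    refine ⟨Nat.card (Sylow q G) / q, ?_⟩
    have h1 := card_sylow_modEq_one q G
    unfold Nat.ModEq at h1
    rw [Nat.one_mod_eq_one.2 hq.ne_one] at h1
    conv_lhs => rw [← Nat.div_add_mod (Nat.card (Sylow q G)) q, h1]
    ring
  obtain ⟨c, e, num⟩ := exists_num hset hn
  obtain rfl : c = 1 := by
    have h1 : Nat.card (Subgroup.centralizer ((S : Subgroup G) : Set G)) ≤ q := by
      calc _ ≤ Nat.card (Subgroup.centralizer ({z} : Set G)) :=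
            Subgroup.card_le_of_le (Subgroup.centralizer_le
              (Set.singleton_subset_iff.2 (hS (Subgroup.mem_zpowers z))))
        _ = q := by rw [centralizer_q hq hcard hz, Nat.card_zpowers, hz]
    rw [num.cardC] at h1
    have h2 := num.cpos
    nlinarith [hq.two_le]
  have heq : e * (1 + n * q) = 9 * 2 ^ a := by
    refine Nat.eq_of_mul_eq_mul_left hq.pos ?_
    rw [← mul_comm (9 * 2 ^ a) q, ← hcard, num.cardG]
    ring
  obtain ⟨Mq, hMq⟩ := exists_isPModular hq
  haveI : Mq.IsPrime := hMq.2.1.isPrime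
  obtain ⟨s, X, Y, sg, ε, B⟩ := exists_blk hMq hset num
  have he2 := num.epos
  have hin : ∀ χ : IrrCharacter G, ¬ q ∣ charDegree (χ : G → ℂ) → χ ∈ X ∨ χ ∈ Y := fun χ hχ =>
    (B.mem χ).1 (by_contra fun hne => hχ (outside hMq hset num hne).1)
  have htriv : ((CfsgLib.BrauerPairs.trivIrr G) : IrrCharacter G) = oneIrr G :=
    Subtype.ext (funext fun g => trivIrr_apply g)
  have hthree : ∀ A A' : IrrCharacter G, A ≠ A' → A ≠ oneIrr G → A' ≠ oneIrr G → A ∈ X → A' ∈ X →
      3 ≤ e := by
    intro A A' h1 h2 h3 hA hA'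
    rw [← B.cardX]
    refine le_trans (le_of_eq ?_) (Finset.card_le_card (show ({(CfsgLib.BrauerPairs.trivIrr G), A, A'} : Finset _) ⊆ X by
      intro x hx
      simp only [Finset.mem_insert, Finset.mem_singleton] at hx
      rcases hx with rfl | rfl | rfl
      · exact B.triv
      · exact hA
      · exact hA'))
    rw [Finset.card_insert_of_notMem (by simp [htriv, h2.symm, h3.symm]), Finset.card_pair h1]
  have hes := B.hes
  rcases hcases with ⟨hdD, rfl⟩ | ⟨hdD, rfl⟩ | ⟨hdD, rfl⟩
  · exfalso
    have hec : e = 2 ∨ e = 4 := by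
      have : e ∣ 4 := ⟨s, by omega⟩
      have := Nat.le_of_dvd (by norm_num) this
      interval_cases e <;> omega
    rcases hec with rfl | rfl
    · have hX : ∀ A : IrrCharacter G, charDegree (A : G → ℂ) = 4 → A ∈ X := fun A hA => by
        refine (hin A (by rw [hA]; norm_num)).resolve_right fun hY => ?_
        have hc := B.congY A hY
        simp only [Int.ModEq, CfsgLib.Cyclic.deg, hA] at hc
        rcases B.signY with rfl | rfl <;> norm_num at hc
      have := hthree D D' hpair.1 hD1 hD1' (hX D hdD) (hX D' (hdeg.trans hdD))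
      omega
    -- the order is at most `720`
    have hFfix : ∀ σ : ℂ ≃+* ℂ, ∀ g, σ (axisFun f j g) = axisFun f j g := fun σ g => by
      rw [axisFun]; split_ifs <;> simp [map_ofNat]
    have hrat : ∀ (g : G) (t : ℕ), t.Coprime (orderOf g) →
        (D : G → ℂ) (g ^ t) = (D : G → ℂ) g := by
      intro g t ht
      obtain ⟨σ, hσ⟩ := exists_ringEquiv_pow (orderOf_pos g) ht
      rw [← IsCharacter.map_ringEquiv_eq_pow (IsIrrCharacter.isCharacter D.2) σ hσ]
      exact axis_rational hD1 (by omega) hFfix hF σ g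
    haveI : Fact (Nat.Prime 2) := ⟨Nat.prime_two⟩
    let T : Sylow 2 G := default
    have hT : Nat.card (T : Subgroup G) = 2 ^ a :=
      CfsgLib.SmallSimple.card_sylow_eq T (k := a) (m := 45) (by rw [hcard]; ring) (by norm_num)
    have hbound := LinearPBound.card_factorization_le Nat.prime_two T.2
      (IsCharacter.restrict (IsIrrCharacter.isCharacter D.2) (T : Subgroup G))
      (fun g hg => Subtype.ext (faithful (fun e => hD1 (Subtype.ext e)) (g : G) hg)) (n := 4)
      (by show (D : G → ℂ) ((1 : (T : Subgroup G)) : G) = _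
          rw [Subgroup.coe_one, (irr_one D).1, hdD])
      (fun g t ht => by
        show (D : G → ℂ) ((g ^ t : (T : Subgroup G)) : G) = _
        rw [SubgroupClass.coe_pow]
        exact hrat g t (Nat.Coprime.coprime_dvd_right
          (by rw [Subgroup.orderOf_coe]; exact orderOf_dvd_natCard g) ht))
    rw [hT, Nat.prime_two.factorization_pow, Finsupp.single_eq_same] at hbound
    norm_num [Finset.sum_range_succ] at hbound
    have ha : a = 4 := by interval_cases a <;> norm_num at heq <;> omega
    subst ha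
    exact CfsgLib.OrderBound.false_of_seven_twenty hG (by rw [hcard]; norm_num)
  · exfalso
    have hec : e = 2 := by
      have : e ∣ 6 := ⟨s, by omega⟩
      have hle := Nat.le_of_dvd (by norm_num) this
      have hcyc := two_pow_mod_seven a
      interval_cases e <;> omega
    subst hec
    have hX : ∀ A : IrrCharacter G, charDegree (A : G → ℂ) = 8 → A ∈ X := fun A hA => by
      refine (hin A (by rw [hA]; norm_num)).resolve_right fun hY => ?_
      have hc := B.congY A hY
      simp only [Int.ModEq, CfsgLib.Cyclic.deg, hA] at hc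
      rcases B.signY with rfl | rfl <;> norm_num at hc
    have := hthree C C' hpair.2 hC1 hC1' (hX C (by omega)) (hX C' (by omega))
    omega
  · refine psl_of_seventeen hG hcard ?_
    have hle : Nat.card (Sylow 17 G) ≤ 17 + 1 := by
      obtain ⟨χ, hne, hd, -⟩ := exists_odd_degree hq hq2 hq3 hcard hz
      have h2 := two_le_degree hG hne
      rcases (Nat.dvd_prime_pow Nat.prime_three).1 (hd.trans (dvd_of_eq (by norm_num : 9 = 3 ^ 2)))
        with ⟨k, hk, hk'⟩
      interval_cases k <;> norm_num at hk'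
      · omega
      · exact card_sylow_le_of_character hset (by norm_num) (IsIrrCharacter.isCharacter χ.2)
          (fun g hg => faithful hne g hg) (irr_one χ).1 (by rw [hk']; norm_num)
      · have hY : χ ∈ Y := (hin χ (by rw [hk']; norm_num)).resolve_left fun hX => by
          have hc := B.congX χ hX
          simp only [Int.ModEq, CfsgLib.Cyclic.deg, hk'] at hc
          rcases B.sign χ hX with e1 | e1 <;> rw [e1] at hc <;> norm_num at hc
        have hc := B.congY χ hY
        simp only [Int.ModEq, CfsgLib.Cyclic.deg, hk'] at hc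
        have he16 : e ∣ 16 := ⟨s, by omega⟩
        obtain ⟨i, hi, rfl⟩ := (Nat.dvd_prime_pow Nat.prime_two).1
          (he16.trans (dvd_of_eq (by norm_num : 16 = 2 ^ 4)))
        have hε := B.signY
        obtain ⟨rfl, rfl⟩ : ε = -1 ∧ i = 3 := by
          rcases hε with rfl | rfl <;> interval_cases i <;> simp_all
        obtain rfl : s = 2 := by omega
        exact card_sylow_le_of_two hMq hset num B ⟨4, by norm_num⟩ hY hk' (by norm_num) (by norm_num)
          (by norm_num)
    have := num.npos
    rw [hn] at hle ⊢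
    omega

end CfsgLib.NineTwo
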