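import Mathlib

/-!
# Integer vectors of norm two meeting pairwise in one point form a star
-/

set_option autoImplicit false
set_option linter.unusedSectionVars false

namespace CfsgLib.NineTwo

open Finset
open scoped Classical

variable {ι κ : Type*}

/-- The non-zero places of a vector. -/
noncomputable def supp (s : Finset ι) (z : ι → ℤ) : Finset ι := s.filter fun i => z i ≠ 0

theorem mem_supp {s : Finset ι} {z : ι → ℤ} {i : ι} : i ∈ supp s z ↔ i ∈ s ∧ z i ≠ 0 := by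
  simp [supp]

theorem norm_two {s : Finset ι} {z : ι → ℤ} (h : ∑ i ∈ s, z i * z i = 2) :
    (supp s z).card = 2 ∧ ∀ i ∈ supp s z, z i = 1 ∨ z i = -1 := by
  have hle : ∀ i ∈ s, z i * z i ≤ 2 := fun i hi =>
    (Finset.single_le_sum (f := fun j => z j * z j) (fun j _ => mul_self_nonneg _) hi).trans h.le
  have hcases : ∀ i ∈ s, z i = 0 ∨ z i = 1 ∨ z i = -1 := by
    intro i hi
    have := hle i hi
    have h1 : z i ≤ 1 := by nlinarith
    have h2 : -1 ≤ z i := by nlinarith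
    omega
  refine ⟨?_, fun i hi => (hcases i (mem_supp.1 hi).1).resolve_left (mem_supp.1 hi).2⟩
  have hsum : ∑ i ∈ s, z i * z i = ((supp s z).card : ℤ) := by
    rw [supp, Finset.natCast_card_filter]
    refine Finset.sum_congr rfl fun i hi => ?_
    rcases hcases i hi with h | h | h <;> simp [h]
  omega

theorem sum_inter {s : Finset ι} (z w : ι → ℤ) :
    ∑ i ∈ s, z i * w i = ∑ i ∈ supp s z ∩ supp s w, z i * w i := by
  refine (Finset.sum_subset (fun i hi => (mem_supp.1 (Finset.mem_inter.1 hi).1).1) ?_).symm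
  intro i hi hni
  by_contra hne
  obtain ⟨h1, h2⟩ := mul_ne_zero_iff.1 hne
  exact hni (Finset.mem_inter.2 ⟨mem_supp.2 ⟨hi, h1⟩, mem_supp.2 ⟨hi, h2⟩⟩)

theorem meet {s : Finset ι} {z w : ι → ℤ} (hz : ∑ i ∈ s, z i * z i = 2)
    (hw : ∑ i ∈ s, w i * w i = 2) (h : ∑ i ∈ s, z i * w i = 1) :
    ∃ i, supp s z ∩ supp s w = {i} ∧ z i = w i := by
  obtain ⟨hzc, hz1⟩ := norm_two hz
  obtain ⟨-, hw1⟩ := norm_two hw
  rw [sum_inter] at h
  have hpm : ∀ i ∈ supp s z ∩ supp s w, z i * w i = 1 ∨ z i * w i = -1 := fun i hi => by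
    rcases hz1 i (Finset.mem_inter.1 hi).1 with a | a <;>
      rcases hw1 i (Finset.mem_inter.1 hi).2 with b | b <;> simp [a, b]
  have hc : (supp s z ∩ supp s w).card ≤ 2 :=
    hzc ▸ Finset.card_le_card Finset.inter_subset_left
  have hc1 : (supp s z ∩ supp s w).card = 1 := by
    interval_cases hn : (supp s z ∩ supp s w).card
    · rw [Finset.card_eq_zero.1 hn] at h; simp at h
    · rfl
    · obtain ⟨i, j, hij, he⟩ := Finset.card_eq_two.1 hn
      rw [he, Finset.sum_pair hij] at h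
      rcases hpm i (by simp [he]) with a | a <;> rcases hpm j (by simp [he]) with b | b <;> omega
  obtain ⟨i, hi⟩ := Finset.card_eq_one.1 hc1
  refine ⟨i, hi, ?_⟩
  rw [hi, Finset.sum_singleton] at h
  rcases hz1 i (Finset.mem_inter.1 (hi ▸ Finset.mem_singleton_self i)).1 with a | a <;>
    rw [a] at h ⊢ <;> omega

/-- Four classes of vectors of norm two, with pairwise inner product one, form a star. -/
theorem star {s : Finset ι} {L : Finset κ} (bar : κ → κ) (a : ι → κ → ℤ)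
    (hbarL : ∀ k ∈ L, bar k ∈ L) (hbar : ∀ k ∈ L, bar (bar k) = k) (hne : ∀ k ∈ L, bar k ≠ k)
    (hsym : ∀ i ∈ s, ∀ k ∈ L, a i (bar k) = a i k) (hL : L.card = 8)
    (hgram : ∀ k ∈ L, ∀ l ∈ L,
      ∑ i ∈ s, a i k * a i l = if l = k ∨ l = bar k then 2 else 1) :
    ∃ C ∈ s, ∃ δ : ℤ, (δ = 1 ∨ δ = -1) ∧ (∀ k ∈ L, a C k = δ) ∧
      ∀ k ∈ L, ∃ D ∈ s, D ≠ C ∧ (a D k = 1 ∨ a D k = -1) ∧
        (∀ i ∈ s, i ≠ C → i ≠ D → a i k = 0) ∧ ∀ l ∈ L, l ≠ k → l ≠ bar k → a D l = 0 := by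
  have hn : ∀ k ∈ L, ∑ i ∈ s, a i k * a i k = 2 := fun k hk => by simpa using hgram k hk k hk
  set S : κ → Finset ι := fun k => supp s fun i => a i k with hS
  have hcard : ∀ k ∈ L, (S k).card = 2 := fun k hk => (norm_two (hn k hk)).1
  have hmeet : ∀ k ∈ L, ∀ l ∈ L, l ≠ k → l ≠ bar k → ∃ i, S k ∩ S l = {i} ∧ a i k = a i l := by
    intro k hk l hl h1 h2
    refine meet (hn k hk) (hn l hl) ?_
    rw [hgram k hk l hl, if_neg (by tauto)]
  have hapart : ∀ k ∈ L, ∀ l, l ≠ k → l ≠ bar k → l ∈ L → bar k ≠ l ∧ k ≠ bar l := by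
    intro k hk l h1 h2 hl
    exact ⟨fun e => h2 e.symm, fun e => h2 (by rw [e, hbar l hl])⟩
  have hex : ∀ T : Finset κ, T.card < 8 → ∃ k ∈ L, k ∉ T := fun T hT => by
    by_contra hc
    push Not at hc
    have := Finset.card_le_card (show L ⊆ T from hc)
    omega
  obtain ⟨k0, hk0⟩ : L.Nonempty := Finset.card_pos.1 (by omega)
  obtain ⟨l0, hl0, hl0'⟩ := hex {k0, bar k0} ((Finset.card_le_two).trans_lt (by norm_num))
  simp only [Finset.mem_insert, Finset.mem_singleton, not_or] at hl0'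
  obtain ⟨C, hC, hCeq⟩ := hmeet k0 hk0 l0 hl0 hl0'.1 hl0'.2
  have hCk : C ∈ S k0 := (Finset.mem_inter.1 (hC ▸ Finset.mem_singleton_self C)).1
  have hCl : C ∈ S l0 := (Finset.mem_inter.1 (hC ▸ Finset.mem_singleton_self C)).2
  have hSbar : ∀ k ∈ L, S (bar k) = S k := fun k hk => by
    refine Finset.filter_congr fun i hi => ?_
    simp only [hsym i hi k hk]
  have hall : ∀ n ∈ L, C ∈ S n := by
    intro n hn'
    by_cases h1 : n = k0 ∨ n = bar k0
    · rcases h1 with rfl | rfl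
      · exact hCk
      · rw [hSbar k0 hk0]; exact hCk
    by_cases h2 : n = l0 ∨ n = bar l0
    · rcases h2 with rfl | rfl
      · exact hCl
      · rw [hSbar l0 hl0]; exact hCl
    rw [not_or] at h1 h2
    by_contra hCn
    obtain ⟨A, hA, -⟩ := hmeet k0 hk0 n hn' h1.1 h1.2
    obtain ⟨B, hB, -⟩ := hmeet l0 hl0 n hn' h2.1 h2.2
    have hAk := (Finset.mem_inter.1 (hA ▸ Finset.mem_singleton_self A)).1
    have hAn := (Finset.mem_inter.1 (hA ▸ Finset.mem_singleton_self A)).2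
    have hBl := (Finset.mem_inter.1 (hB ▸ Finset.mem_singleton_self B)).1
    have hBn := (Finset.mem_inter.1 (hB ▸ Finset.mem_singleton_self B)).2
    have hAC : A ≠ C := fun e => hCn (e ▸ hAn)
    have hBC : B ≠ C := fun e => hCn (e ▸ hBn)
    have hAB : A ≠ B := fun e => hAC (Finset.mem_singleton.1
      (hC ▸ Finset.mem_inter.2 ⟨hAk, e ▸ hBl⟩))
    have hSn : S n = {A, B} := (Finset.eq_of_subset_of_card_le (by
      intro i hi
      simp only [Finset.mem_insert, Finset.mem_singleton] at hi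
      rcases hi with rfl | rfl <;> assumption) (by rw [hcard n hn', Finset.card_pair hAB])).symm
    obtain ⟨r, hr, hr'⟩ := hex ({k0, bar k0, l0, bar l0, n, bar n} : Finset κ)
      (Nat.lt_of_le_of_lt Finset.card_le_six (by norm_num))
    simp only [Finset.mem_insert, Finset.mem_singleton, not_or] at hr'
    obtain ⟨r1, r2, r3, r4, r5, r6⟩ := hr'
    obtain ⟨X, hX, -⟩ := hmeet k0 hk0 r hr r1 r2
    obtain ⟨Y, hY, -⟩ := hmeet l0 hl0 r hr r3 r4
    obtain ⟨Z, hZ, -⟩ := hmeet n hn' r hr r5 r6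
    have hZn : Z ∈ S n := (Finset.mem_inter.1 (hZ ▸ Finset.mem_singleton_self Z)).1
    have hZr : Z ∈ S r := (Finset.mem_inter.1 (hZ ▸ Finset.mem_singleton_self Z)).2
    by_cases hCr : C ∈ S r
    · rw [hSn, Finset.mem_insert, Finset.mem_singleton] at hZn
      rcases hZn with rfl | rfl
      · have h1 := Finset.mem_singleton.1 (hX ▸ Finset.mem_inter.2 ⟨hAk, hZr⟩)
        have h2 := Finset.mem_singleton.1 (hX ▸ Finset.mem_inter.2 ⟨hCk, hCr⟩)
        exact hAC (h1.trans h2.symm)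
      · have h1 := Finset.mem_singleton.1 (hY ▸ Finset.mem_inter.2 ⟨hBl, hZr⟩)
        have h2 := Finset.mem_singleton.1 (hY ▸ Finset.mem_inter.2 ⟨hCl, hCr⟩)
        exact hBC (h1.trans h2.symm)
    · have hpair : ∀ {k : κ}, k ∈ L → ∀ {E : ι}, C ∈ S k → E ∈ S k → E ≠ C →
          ∀ {F : ι}, S k ∩ S r = {F} → F = E := by
        intro k hk E hCk' hEk hEC F hF
        have hF' := Finset.mem_inter.1 (hF ▸ Finset.mem_singleton_self F)
        have hSk : ({C, E} : Finset ι) = S k := Finset.eq_of_subset_of_card_le (by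
          intro i hi
          simp only [Finset.mem_insert, Finset.mem_singleton] at hi
          rcases hi with rfl | rfl <;> assumption) (by rw [hcard k hk, Finset.card_pair hEC.symm])
        have := hSk.symm ▸ hF'.1
        simp only [Finset.mem_insert, Finset.mem_singleton] at this
        rcases this with rfl | rfl
        · exact absurd hF'.2 hCr
        · rfl
      have hXA := hpair hk0 hCk hAk hAC hX
      have hYB := hpair hl0 hCl hBl hBC hY
      have hAr : A ∈ S r := hXA ▸ (Finset.mem_inter.1 (hX ▸ Finset.mem_singleton_self X)).2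
      have hBr : B ∈ S r := hYB ▸ (Finset.mem_inter.1 (hY ▸ Finset.mem_singleton_self Y)).2
      have h1 := Finset.mem_singleton.1 (hZ ▸ Finset.mem_inter.2 ⟨hAn, hAr⟩)
      have h2 := Finset.mem_singleton.1 (hZ ▸ Finset.mem_inter.2 ⟨hBn, hBr⟩)
      exact hAB (h1.trans h2.symm)
  have heq : ∀ k ∈ L, ∀ l ∈ L, a C k = a C l := by
    intro k hk l hl
    by_cases h1 : l = k
    · rw [h1]
    by_cases h2 : l = bar k
    · rw [h2, hsym C (mem_supp.1 (hall k hk)).1 k hk]
    obtain ⟨i, hi, hie⟩ := hmeet k hk l hl h1 h2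
    obtain rfl := Finset.mem_singleton.1 (hi ▸ Finset.mem_inter.2 ⟨hall k hk, hall l hl⟩)
    exact hie
  refine ⟨C, (mem_supp.1 hCk).1, a C k0, (norm_two (hn k0 hk0)).2 C hCk,
    fun k hk => heq k hk k0 hk0, fun k hk => ?_⟩
  obtain ⟨D, hD⟩ := Finset.card_eq_one.1 (show ((S k).erase C).card = 1 by
    rw [Finset.card_erase_of_mem (hall k hk), hcard k hk])
  have hD' := Finset.mem_erase.1 (hD ▸ Finset.mem_singleton_self D)
  refine ⟨D, (mem_supp.1 hD'.2).1, hD'.1, (norm_two (hn k hk)).2 D hD'.2, fun i hi hiC hiD => ?_,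
    fun l hl h1 h2 => ?_⟩
  · by_contra h
    exact hiD (Finset.mem_singleton.1 (hD ▸ Finset.mem_erase.2 ⟨hiC, mem_supp.2 ⟨hi, h⟩⟩))
  · by_contra h
    obtain ⟨i, hi, -⟩ := hmeet k hk l hl h1 h2
    have h1 := Finset.mem_singleton.1 (hi ▸ Finset.mem_inter.2
      ⟨hD'.2, mem_supp.2 ⟨(mem_supp.1 hD'.2).1, h⟩⟩)
    have h2 := Finset.mem_singleton.1 (hi ▸ Finset.mem_inter.2 ⟨hall k hk, hall l hl⟩)
    exact hD'.1 (h1.trans h2.symm)

end CfsgLib.NineTwo
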