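import Cfsg.Agent.NineTwo.FourCount
import Cfsg.Agent.NineTwo.Parity
import Cfsg.Agent.NineTwo.Star
import Cfsg.Agent.NineTwo.Arith
import Cfsg.Agent.Char.Generalized

/-!
# The case of four sign changes: two characters of consecutive degree for each axis
-/

set_option autoImplicit false
set_option linter.unusedSectionVars false
set_option linter.style.haveILetI false

namespace CfsgLib.NineTwo

open Finset Cfsg CfsgLib.Block CfsgLib.Block.Chr CfsgLib.Char CfsgLib.SectionCount
open scoped ComplexConjugate Classical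

universe u

variable {G : Type u} [Group G] [Fintype G] [Fintype (IrrCharacter G)] {m j : ℕ}

/-- Three times the indicator of the 3-sections off one axis. -/
noncomputable def axisFun (f : ZMod 3 × ZMod 3 → G) (j : ℕ) (g : G) : ℂ :=
  if ∃ p : ZMod 3 × ZMod 3, p.1 ≠ 0 ∧ IsConj (f p) (g ^ j) then 3 else 0

theorem three_diag : ((1 : ZMod 3), (1 : ZMod 3)) + (1, 1) + (1, 1) = 0 := by decide

theorem axisFun_isClassFunction (f : ZMod 3 × ZMod 3 → G) (j : ℕ) :
    IsClassFunction G (axisFun f j) := by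
  intro g c
  have h : IsConj (g ^ j) ((c * g * c⁻¹) ^ j) := isConj_iff.2 ⟨c, by rw [conj_pow]⟩
  simp only [axisFun]
  refine if_congr ⟨?_, ?_⟩ rfl rfl
  · rintro ⟨p, hp, hc⟩; exact ⟨p, hp, hc.trans h.symm⟩
  · rintro ⟨p, hp, hc⟩; exact ⟨p, hp, hc.trans h⟩

theorem stdAddChar_three (k : ZMod 3) :
    (2 : ℂ) - ZMod.stdAddChar k - ZMod.stdAddChar (-k) = if k = 0 then 0 else 3 := by
  have hs := ColumnData.sum_stdAddChar (p := 3) (1 : ZMod 3)
  rw [if_neg (by decide), show (Finset.univ : Finset (ZMod 3)) = {0, 1, 2} by decide,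
    Finset.sum_insert (by decide), Finset.sum_insert (by decide), Finset.sum_singleton] at hs
  simp only [mul_one, AddChar.map_zero_eq_one] at hs
  rcases three_cases k with rfl | rfl | rfl
  · simp only [neg_zero, AddChar.map_zero_eq_one, if_true]
    norm_num
  · rw [if_neg (by decide), show (-1 : ZMod 3) = 2 by decide]
    linear_combination -hs
  · rw [if_neg (by decide), show (-2 : ZMod 3) = 1 by decide]
    linear_combination -hs

variable {P : Sylow 3 G} {f : ZMod 3 × ZMod 3 → G}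

theorem FourFusion.cond_iff (h : FourFusion (P : Subgroup G) f) (x : G) :
    (∃ p : ZMod 3 × ZMod 3, p.1 ≠ 0 ∧ IsConj (f p) x) ↔
      IsConj (f (1, 0)) x ∨ IsConj (f (1, 1)) x := by
  constructor
  · rintro ⟨⟨u, v⟩, hu, hc⟩
    have hu' : u * u = 1 := by
      rcases pm_cases u hu with rfl | rfl
      · exact one_mul 1
      · exact neg_one_mul_neg_one
    by_cases hv : v = 0
    · obtain ⟨n, -, hn⟩ := h.real u 1 hu' (one_mul 1)
      exact Or.inl ((isConj_iff.2 ⟨n, by rw [hn, hv]; simp⟩ : IsConj (f (1, 0)) (f (u, v))).trans hc)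
    · have hv' : v * v = 1 := by
        rcases pm_cases v hv with rfl | rfl
        · exact one_mul 1
        · exact neg_one_mul_neg_one
      obtain ⟨n, -, hn⟩ := h.real u v hu' hv'
      exact Or.inr ((isConj_iff.2 ⟨n, by rw [hn]; simp⟩ : IsConj (f (1, 1)) (f (u, v))).trans hc)
  · rintro (hc | hc)
    · exact ⟨(1, 0), one_ne_zero, hc⟩
    · exact ⟨(1, 1), one_ne_zero, hc⟩

theorem FourFusion.not_conj (h : FourFusion (P : Subgroup G) f) {x : G}
    (h0 : IsConj (f (1, 0)) x) : ¬ IsConj (f (1, 1)) x := fun h1 => by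
  obtain ⟨ε, δ, -, -, he⟩ := h.fus _ _ (h0.trans h1.symm)
  simp only [Prod.mk.injEq, mul_zero] at he
  exact one_ne_zero he.2

theorem FourFusion.card_cond [Fact (Nat.Prime 3)] (hcard : Nat.card G = 9 * m) (hm : ¬ 3 ∣ m)
    (hj1 : j ≡ 1 [MOD 9]) (hj0 : j ≡ 0 [MOD m]) (h : FourFusion (P : Subgroup G) f)
    (h9 : Nat.card (P : Subgroup G) = 9) (hP : IsMulCommutative (P : Subgroup G)) :
    3 * (univ.filter fun g : G =>
      ∃ p : ZMod 3 × ZMod 3, p.1 ≠ 0 ∧ IsConj (f p) (g ^ j)).card = Nat.card G := by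
  have h1 := h.card_axis hcard hm hj1 hj0 h9 hP
  have h2 := h.card_diag hcard hm hj1 hj0 h9 hP
  rw [Nat.card_eq_fintype_card, Fintype.card_subtype] at h1 h2
  rw [Finset.filter_congr fun g _ => h.cond_iff (g ^ j), Finset.filter_or,
    Finset.card_union_of_disjoint (Finset.disjoint_filter.2 fun g _ hg => h.not_conj hg)]
  omega

/-- The function is a generalised character. -/
theorem FourFusion.isGeneralized [Fact (Nat.Prime 3)] (hcard : Nat.card G = 9 * m) (hm : ¬ 3 ∣ m)
    (hj : 1 ≤ j) (hj1 : j ≡ 1 [MOD 9]) (hj0 : j ≡ 0 [MOD m]) (h : FourFusion (P : Subgroup G) f) :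
    IsGeneralizedCharacter G (axisFun f j) := by
  refine isGeneralized_of_restrict_elementary (axisFun_isClassFunction f j) fun E p hp hE => ?_
  have hcop : Nat.Coprime 9 m := by
    rw [show (9 : ℕ) = 3 ^ 2 by norm_num]
    exact Nat.Coprime.pow_left _ (Nat.prime_three.coprime_iff_not_dvd.2 hm)
  let φ : E →* G := MonoidHom.mk' (fun e => (e : G) ^ j) fun a b => by
    have := congrArg Subtype.val (pow_part_mul hj1 hj0 hp hE
      ((Subgroup.card_subgroup_dvd_card E).trans hcard.dvd) hcop hj a b)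
    simpa using this
  have hpg : IsPGroup 3 φ.range := by
    rintro ⟨_, e, rfl⟩
    refine ⟨2, Subtype.ext ?_⟩
    show ((e : G) ^ j) ^ 3 ^ 2 = 1
    exact pow_part_pow hj1 hj0 hcard.dvd (e : G)
  obtain ⟨Q, hQ⟩ := hpg.exists_le_sylow
  obtain ⟨c, hc⟩ := MulAction.exists_smul_eq G Q P
  have hmem : ∀ e, c * φ e * c⁻¹ ∈ (P : Subgroup G) := fun e => by
    rw [← hc, Sylow.coe_subgroup_smul]
    exact ⟨φ e, hQ ⟨e, rfl⟩, rfl⟩
  choose pc hpc using fun e => h.surj _ (hmem e)
  have hadd : ∀ a b, pc (a * b) = pc a + pc b := fun a b => h.inj (by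
    rw [h.add, hpc, hpc, hpc, map_mul]; group)
  let π : E →* Multiplicative (ZMod 3) :=
    MonoidHom.mk' (fun e => Multiplicative.ofAdd (pc e).1) fun a b => by
      show Multiplicative.ofAdd (pc (a * b)).1 = _
      rw [hadd, Prod.fst_add, ofAdd_add]
  let ψ : E →* ℂˣ := ((ZMod.stdAddChar (N := 3)).toMonoidHom.comp π).toHomUnits
  let ψ' : E →* ℂˣ := ((ZMod.stdAddChar (N := 3)).toMonoidHom.comp π⁻¹).toHomUnits
  have hval : (fun e : E => axisFun f j e) =
      ((fun _ => (1 : ℂ)) + fun _ => (1 : ℂ)) - (fun e => (ψ e : ℂ)) - fun e => (ψ' e : ℂ) := by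
    funext e
    have hconj : IsConj (f (pc e)) ((e : G) ^ j) :=
      (isConj_iff.2 ⟨c, (hpc e).symm⟩ : IsConj (φ e) (f (pc e))).symm
    have hiff : (∃ p : ZMod 3 × ZMod 3, p.1 ≠ 0 ∧ IsConj (f p) ((e : G) ^ j)) ↔ (pc e).1 ≠ 0 := by
      refine ⟨?_, fun hne => ⟨pc e, hne, hconj⟩⟩
      rintro ⟨p, hp, hcp⟩ h0
      obtain ⟨ε, δ, hε, -, he⟩ := h.fus _ _ (hconj.trans hcp.symm)
      rw [he] at hp
      exact hp (by simp [h0])
    show axisFun f j e = (1 + 1 : ℂ) - ZMod.stdAddChar (pc e).1 - ZMod.stdAddChar (-(pc e).1)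
    rw [one_add_one_eq_two, stdAddChar_three, axisFun]
    by_cases h0 : (pc e).1 = 0
    · rw [if_pos h0, if_neg (by rw [hiff]; exact not_not.2 h0)]
    · rw [if_neg h0, if_pos (hiff.2 h0)]
  rw [hval]
  exact IsGeneralized.sub (IsGeneralized.sub (IsGeneralized.add isGeneralized_one isGeneralized_one)
    (IsCharacter.isGeneralized (isCharacter_ofHom ψ))) (IsCharacter.isGeneralized (isCharacter_ofHom ψ'))

theorem axisFun_inner {F : G → ℂ} {S : Finset G} {c : ℂ} (hF : ∀ g, F g = if g ∈ S then c else 0) :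
    ∑ g : G, F g = (S.card : ℂ) * c := by
  rw [Finset.sum_congr rfl fun g _ => hF g, Finset.sum_ite_mem, Finset.univ_inter, Finset.sum_const,
    nsmul_eq_mul]

/-- **The two characters of an axis.** -/
theorem FourFusion.axis {M : Ideal AlgInt} [M.IsPrime] [IsSimpleGroup G] [Fact (Nat.Prime 3)]
    (hM : IsPModular 3 M) (hG : ¬ IsMulCommutative G) {q a b : ℕ} (hq : q.Prime) (hq2 : q ≠ 2)
    (hq3 : q ≠ 3) (hcard : Nat.card G = 9 * 2 ^ a * q ^ b) (h : FourFusion (P : Subgroup G) f)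
    (hj : 1 ≤ j) (hj1 : j ≡ 1 [MOD 9]) (hj0 : j ≡ 0 [MOD 2 ^ a * q ^ b]) :
    b = 1 ∧ ∃ D C : IrrCharacter G, D ≠ oneIrr G ∧ C ≠ oneIrr G ∧ D ≠ C ∧
      axisFun f j = (fun g => 1 + (D : G → ℂ) g - (C : G → ℂ) g) ∧
      charDegree (C : G → ℂ) = charDegree (D : G → ℂ) + 1 ∧
      ((charDegree (D : G → ℂ) = 4 ∧ q = 5) ∨ (charDegree (D : G → ℂ) = 7 ∧ q = 7) ∨
        (charDegree (D : G → ℂ) = 16 ∧ q = 17)) := by
  have h9 := card_sylow hq hq3 hcard P
  have hP := sylow_comm hq hq3 hcard P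
  have hcard' : Nat.card G = 9 * (2 ^ a * q ^ b) := by rw [hcard, mul_assoc]
  have hm : ¬ 3 ∣ 2 ^ a * q ^ b := fun hd => by
    rcases Nat.prime_three.dvd_mul.1 hd with h' | h'
    · have := (Nat.prime_dvd_prime_iff_eq Nat.prime_three Nat.prime_two).1
        (Nat.prime_three.dvd_of_dvd_pow h')
      omega
    · exact hq3 ((Nat.prime_dvd_prime_iff_eq Nat.prime_three hq).1
        (Nat.prime_three.dvd_of_dvd_pow h')).symm
  set F := axisFun f j with hF
  set S := univ.filter fun g : G => ∃ p : ZMod 3 × ZMod 3, p.1 ≠ 0 ∧ IsConj (f p) (g ^ j) with hS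
  have hFS : ∀ g, F g = if g ∈ S then (3 : ℂ) else 0 := fun g => by simp [hF, hS, axisFun]
  have hScard : 3 * S.card = Nat.card G := h.card_cond hcard' hm hj1 hj0 h9 hP
  have hgne : (Nat.card G : ℂ) ≠ 0 := Nat.cast_ne_zero.2 Nat.card_pos.ne'
  have hgen : IsGeneralizedCharacter G F := h.isGeneralized hcard' hm hj hj1 hj0
  have hF1 : classInner F (oneIrr G : G → ℂ) = 1 := by
    simp only [classInner, oneIrr_apply, map_one, mul_one]
    rw [axisFun_inner hFS, inv_mul_eq_one₀ hgne, ← hScard]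
    push_cast; ring
  have hFF : classInner F F = 3 := by
    simp only [classInner]
    rw [axisFun_inner (S := S) (c := 9) fun g => by
      rw [hFS]; split_ifs <;> norm_num [Complex.conj_ofNat], inv_mul_eq_iff_eq_mul₀ hgne, ← hScard]
    push_cast; ring
  choose n hn using fun χ : IrrCharacter G =>
    IsGeneralized.exists_classInner_eq_int hgen (IsIrrCharacter.isGeneralized χ.2)
  have hn1 : n (oneIrr G) = 1 := by
    have := hn (oneIrr G)
    rw [hF1] at this
    exact_mod_cast this.symm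
  have hexp : ∀ g, F g = ∑ χ : IrrCharacter G, (n χ : ℂ) * (χ : G → ℂ) g := fun g => by
    rw [hF, classFun_expand (axisFun_isClassFunction f j) g]
    exact Finset.sum_congr rfl fun χ _ => by rw [hn χ]
  have hnorm : ∑ χ : IrrCharacter G, n χ * n χ = 3 := by
    have h2 := classInner_eq_sum_irr (axisFun_isClassFunction f j) F
    rw [hFF, ← sum_irr_eq (fun χ => classInner F χ * conj (classInner F χ))] at h2
    simp only [hn, map_intCast] at h2
    exact_mod_cast h2.symm
  rw [← Finset.add_sum_erase _ _ (Finset.mem_univ (oneIrr G)), hn1] at hnorm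
  obtain ⟨hc2, hpm⟩ := norm_two (s := univ.erase (oneIrr G)) (z := n) (by linarith)
  obtain ⟨A, B, hAB, hsupp⟩ := Finset.card_eq_two.1 hc2
  have hA : A ≠ oneIrr G ∧ (n A = 1 ∨ n A = -1) := by
    have hmem : A ∈ supp (univ.erase (oneIrr G)) n := by rw [hsupp]; simp
    exact ⟨Finset.ne_of_mem_erase (mem_supp.1 hmem).1, hpm A hmem⟩
  have hB : B ≠ oneIrr G ∧ (n B = 1 ∨ n B = -1) := by
    have hmem : B ∈ supp (univ.erase (oneIrr G)) n := by rw [hsupp]; simp
    exact ⟨Finset.ne_of_mem_erase (mem_supp.1 hmem).1, hpm B hmem⟩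
  have hzero : ∀ χ, χ ≠ oneIrr G → χ ≠ A → χ ≠ B → n χ = 0 := fun χ h1 h2 h3 => by
    by_contra hne
    have hmem : χ ∈ supp (univ.erase (oneIrr G)) n :=
      mem_supp.2 ⟨Finset.mem_erase.2 ⟨h1, Finset.mem_univ _⟩, hne⟩
    rw [hsupp] at hmem
    simp [h2, h3] at hmem
  have hFval : ∀ g, F g = 1 + (n A : ℂ) * (A : G → ℂ) g + (n B : ℂ) * (B : G → ℂ) g := by
    intro g
    rw [hexp g, ← Finset.sum_subset (Finset.subset_univ {oneIrr G, A, B}) (fun χ _ hχ => by
      simp only [Finset.mem_insert, Finset.mem_singleton, not_or] at hχ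
      rw [hzero χ hχ.1 hχ.2.1 hχ.2.2, Int.cast_zero, zero_mul]),
      Finset.sum_insert (by simp [hA.1.symm, hB.1.symm]), Finset.sum_pair hAB, hn1, oneIrr_apply]
    push_cast; ring
  -- the block part
  have hblock : ∑ χ ∈ prin G M, (n χ : ℂ) * (χ : G → ℂ) 1 = 0 := by
    have e : ∀ χ : IrrCharacter G, (n χ : ℂ) * (χ : G → ℂ) 1 =
        (Nat.card G : ℂ)⁻¹ * ∑ g : G, F g * ((χ : G → ℂ) 1 * conj ((χ : G → ℂ) g)) := fun χ => by
      rw [← hn χ, classInner, mul_assoc, Finset.sum_mul]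
      exact congrArg _ (Finset.sum_congr rfl fun g _ => by ring)
    rw [Finset.sum_congr rfl fun χ _ => e χ, ← Finset.mul_sum, Finset.sum_comm]
    refine mul_eq_zero_of_right _ (Finset.sum_eq_zero fun g _ => ?_)
    rw [← Finset.mul_sum]
    by_cases hg : 3 ∣ orderOf g
    · rw [show (∑ χ ∈ prin G M, (χ : G → ℂ) 1 * conj ((χ : G → ℂ) g)) = 0 from ?_, mul_zero]
      rw [prin]
      convert weak_orth hM (isIntClass_blockCoeff (M := M) (isPBlock_principalBlock (M := M) (G := G)))
        (g := (1 : G)) (h := g) (by rw [orderOf_one]; norm_num) hg using 3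
    · have hgm : g ^ j = 1 := by
        refine orderOf_dvd_iff_pow_eq_one.1 ((Nat.Coprime.dvd_of_dvd_mul_left ?_
          (hcard' ▸ orderOf_dvd_natCard g)).trans (Nat.modEq_zero_iff_dvd.1 hj0))
        rw [show (9 : ℕ) = 3 ^ 2 by norm_num]
        exact Nat.Coprime.pow_right 2 (Nat.prime_three.coprime_iff_not_dvd.2 hg).symm
      rw [hFS, if_neg, zero_mul]
      rw [hS, Finset.mem_filter, hgm]
      rintro ⟨-, p, hp, hc⟩
      have h0 := isConj_one_left.1 hc
      rw [← coords_zero h.add] at h0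
      exact hp (congrArg Prod.fst (h.inj h0))
  have hdeg : ∀ χ : IrrCharacter G, χ ≠ oneIrr G → 2 ≤ charDegree (χ : G → ℂ) := fun χ hne =>
    two_le_degree hG fun e => hne (Subtype.ext e)
  have hsum0 : 1 + n A * charDegree (A : G → ℂ) + n B * charDegree (B : G → ℂ) = 0 := by
    have e := hFval 1
    rw [hFS, if_neg, (irr_one A).1, (irr_one B).1] at e
    · exact_mod_cast e.symm
    rw [hS, Finset.mem_filter, one_pow]
    rintro ⟨-, p, hp, hc⟩
    have h0 := isConj_one_left.1 hc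
    rw [← coords_zero h.add] at h0
    exact hp (congrArg Prod.fst (h.inj h0))
  have hmemB : A ∈ prin G M ∧ B ∈ prin G M := by
    rw [← Finset.sum_filter_ne_zero] at hblock
    have hfilter : ∀ χ, χ ∈ (prin G M).filter (fun χ => (n χ : ℂ) * (χ : G → ℂ) 1 ≠ 0) ↔
        χ ∈ prin G M ∧ (χ = oneIrr G ∨ χ = A ∨ χ = B) := by
      intro χ
      rw [Finset.mem_filter, mul_ne_zero_iff, Int.cast_ne_zero]
      refine ⟨fun hh => ⟨hh.1, ?_⟩, fun hh => ⟨hh.1, ?_, irr_one_ne_zero χ⟩⟩
      · by_contra hc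
        push Not at hc
        exact hh.2.1 (hzero χ hc.1 hc.2.1 hc.2.2)
      · rcases hh.2 with rfl | rfl | rfl
        · rw [hn1]; exact one_ne_zero
        · rcases hA.2 with e | e <;> rw [e] <;> norm_num
        · rcases hB.2 with e | e <;> rw [e] <;> norm_num
    have hdA := hdeg A hA.1
    have hdB := hdeg B hB.1
    have hone : (oneIrr G : IrrCharacter G) ∈ prin G M := one_mem_prin
    by_cases hAm : A ∈ prin G M <;> by_cases hBm : B ∈ prin G M
    · exact ⟨hAm, hBm⟩
    all_goals exfalso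
    · rw [show (prin G M).filter (fun χ => (n χ : ℂ) * (χ : G → ℂ) 1 ≠ 0) = {oneIrr G, A} by
        ext χ; rw [hfilter]; simp only [Finset.mem_insert, Finset.mem_singleton]
        constructor
        · rintro ⟨hm', rfl | rfl | rfl⟩
          · simp
          · simp
          · exact absurd hm' hBm
        · rintro (rfl | rfl) <;> simp [hone, hAm],
        Finset.sum_pair hA.1.symm, hn1, oneIrr_apply, (irr_one A).1] at hblock
      have e : (1 : ℤ) + n A * charDegree (A : G → ℂ) = 0 := by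
        push_cast at hblock
        rw [one_mul] at hblock
        exact_mod_cast hblock
      rcases hA.2 with e1 | e1 <;> rw [e1] at e <;> omega
    · rw [show (prin G M).filter (fun χ => (n χ : ℂ) * (χ : G → ℂ) 1 ≠ 0) = {oneIrr G, B} by
        ext χ; rw [hfilter]; simp only [Finset.mem_insert, Finset.mem_singleton]
        constructor
        · rintro ⟨hm', rfl | rfl | rfl⟩
          · simp
          · exact absurd hm' hAm
          · simp
        · rintro (rfl | rfl) <;> simp [hone, hBm],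
        Finset.sum_pair hB.1.symm, hn1, oneIrr_apply, (irr_one B).1] at hblock
      have e : (1 : ℤ) + n B * charDegree (B : G → ℂ) = 0 := by
        push_cast at hblock
        rw [one_mul] at hblock
        exact_mod_cast hblock
      rcases hB.2 with e1 | e1 <;> rw [e1] at e <;> omega
    · rw [show (prin G M).filter (fun χ => (n χ : ℂ) * (χ : G → ℂ) 1 ≠ 0) = {oneIrr G} by
        ext χ; rw [hfilter]; simp only [Finset.mem_singleton]
        constructor
        · rintro ⟨hm', rfl | rfl | rfl⟩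
          · rfl
          · exact absurd hm' hAm
          · exact absurd hm' hBm
        · rintro rfl; simp [hone],
        Finset.sum_singleton, hn1, oneIrr_apply] at hblock
      norm_num at hblock
  -- the degrees are prime to three
  have hord3 : orderOf (f (1, 1)) = 3 := by
    haveI : Fact (Nat.Prime 3) := ⟨Nat.prime_three⟩
    refine orderOf_eq_prime ?_ fun e => ?_
    · have e0 := three_diag
      rw [pow_succ, sq, ← h.add, ← h.add, e0, coords_zero h.add]
    · rw [← coords_zero h.add] at e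
      exact one_ne_zero (congrArg Prod.fst (h.inj e))
  have hreal : IsConj (f (1, 1)) (f (1, 1))⁻¹ := by
    obtain ⟨n', -, hn'⟩ := h.real (-1) (-1) neg_one_mul_neg_one neg_one_mul_neg_one
    refine isConj_iff.2 ⟨n', ?_⟩
    rw [hn']
    refine eq_inv_of_mul_eq_one_left ?_
    rw [← h.add]
    simp [← Prod.zero_eq_mk, coords_zero h.add]
  have hcidx : ¬ 3 ∣ (Subgroup.centralizer ({f (1, 1)} : Set G)).index := by
    intro hd
    set C3 := Subgroup.centralizer ({f (1, 1)} : Set G)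
    have h9d : 9 ∣ Nat.card C3 := h9 ▸ Subgroup.card_dvd_of_le fun y hy =>
      Subgroup.mem_centralizer_singleton_iff.2 (setLike_mul_comm (S := Subgroup G) hy (h.mem _))
    have := Nat.mul_dvd_mul h9d hd
    rw [Subgroup.card_mul_index, hcard', show 9 * 3 = 9 * 3 from rfl] at this
    exact hm (Nat.dvd_of_mul_dvd_mul_left (by norm_num) this)
  have hthree : ∀ χ ∈ prin G M, χ ≠ oneIrr G → ¬ 3 ∣ charDegree (χ : G → ℂ) := by
    intro χ hχ hne hd
    obtain ⟨v, hv, hv3⟩ := ThreeNine.exists_int_value hord3 hreal χ.2 (irr_one χ).1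
    have hv0 : v ≠ 0 := fun e => value_ne_zero hM hχ hcidx (by rw [hv, e, Int.cast_zero])
    have hcol := col_self hM (h.order_dvd h9 (1, 1)) (h.core_diag h9 hP)
    have hreal' : ∀ ψ ∈ prin G M, ∃ w : ℤ,
        (ψ : G → ℂ) (f (1, 1)) * conj ((ψ : G → ℂ) (f (1, 1))) = ((w * w : ℤ) : ℂ) := fun ψ _ => by
      obtain ⟨w, hw, -⟩ := ThreeNine.exists_int_value hord3 hreal ψ.2 (irr_one ψ).1
      exact ⟨w, by rw [hw, map_intCast]; push_cast; ring⟩
    choose! w hw using hreal'
    rw [Finset.sum_congr rfl hw, ← Finset.add_sum_erase _ _ hχ,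
      ← Finset.add_sum_erase _ _ (Finset.mem_erase.2 ⟨hne.symm, one_mem_prin⟩)] at hcol
    have e1 : w (oneIrr G) * w (oneIrr G) = 1 := by
      have := hw _ (one_mem_prin (M := M))
      rw [oneIrr_apply, map_one, mul_one] at this
      exact_mod_cast this.symm
    have e2 : w χ * w χ = v * v := by
      have := hw _ hχ
      rw [hv, map_intCast] at this
      exact_mod_cast this.symm
    rw [e1, e2] at hcol
    have hcol' : v * v + (1 + ∑ x ∈ ((prin G M).erase χ).erase (oneIrr G), w x * w x) = 9 := by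
      exact_mod_cast hcol
    have hnn : 0 ≤ ∑ x ∈ ((prin G M).erase χ).erase (oneIrr G), w x * w x :=
      Finset.sum_nonneg fun x _ => mul_self_nonneg _
    obtain ⟨k, hk⟩ : (3 : ℤ) ∣ v := by
      have : (3 : ℤ) ∣ (charDegree (χ : G → ℂ) : ℤ) := by exact_mod_cast hd
      have := dvd_sub this hv3
      rwa [sub_sub_cancel] at this
    have hk0 : 0 < k * k := mul_self_pos.2 fun (e : k = 0) => hv0 (by rw [hk, e, mul_zero])
    rw [hk] at hcol'
    linarith [hcol', Int.add_one_le_iff.2 hk0, hnn]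
  -- orient
  obtain ⟨D, C, hD, hC, hDC, hval, hdd⟩ : ∃ D C : IrrCharacter G, (D ∈ prin G M ∧ D ≠ oneIrr G) ∧
      (C ∈ prin G M ∧ C ≠ oneIrr G) ∧ D ≠ C ∧
      (∀ g, F g = 1 + (D : G → ℂ) g - (C : G → ℂ) g) ∧
      charDegree (C : G → ℂ) = charDegree (D : G → ℂ) + 1 := by
    have hdA := hdeg A hA.1
    have hdB := hdeg B hB.1
    rcases hA.2 with eA | eA <;> rcases hB.2 with eB | eB
    · rw [eA, eB] at hsum0; omega
    · rw [eA, eB] at hsum0
      exact ⟨A, B, ⟨hmemB.1, hA.1⟩, ⟨hmemB.2, hB.1⟩, hAB,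
        fun g => by rw [hFval, eA, eB]; push_cast; ring, by omega⟩
    · rw [eA, eB] at hsum0
      exact ⟨B, A, ⟨hmemB.2, hB.1⟩, ⟨hmemB.1, hA.1⟩, hAB.symm,
        fun g => by rw [hFval, eA, eB]; push_cast; ring, by omega⟩
    · rw [eA, eB] at hsum0; omega
  have hdivD := degree_dvd D
  have hdivC := degree_dvd C
  rw [hcard] at hdivD hdivC
  rw [hdd] at hdivC
  have hcons := consecutive hq hq2 hq3 (hdeg D hD.2) hdivD hdivC (hthree D hD.1 hD.2)
    (hdd ▸ hthree C hC.1 hC.2)
  have hb : b = 1 := by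
    rcases hcons with ⟨i, -, e⟩ | ⟨i, e, -⟩
    · exact b_eq_one hG hq hq2 hq3 hcard (hdd.trans e)
    · exact b_eq_one hG hq hq2 hq3 hcard e
  subst hb
  have hle := q_le hG hq hq2 hq3 (by rw [hcard, pow_one])
  exact ⟨rfl, D, C, hD.2, hC.2, hDC, funext hval, hdd, small_pairs hq hq3 hle (hdeg D hD.2) hcons⟩

/-- The two functions have inner product one. -/
theorem FourFusion.axis_inner [Fact (Nat.Prime 3)] (hcard : Nat.card G = 9 * m) (hm : ¬ 3 ∣ m)
    (hj1 : j ≡ 1 [MOD 9]) (hj0 : j ≡ 0 [MOD m]) (h : FourFusion (P : Subgroup G) f)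
    (h9 : Nat.card (P : Subgroup G) = 9) (hP : IsMulCommutative (P : Subgroup G)) :
    classInner (axisFun f j) (axisFun (fun p => f (p.2, p.1)) j) = 1 := by
  have h2 := h.card_diag hcard hm hj1 hj0 h9 hP
  rw [Nat.card_eq_fintype_card, Fintype.card_subtype] at h2
  have hboth : ∀ g : G, axisFun f j g * conj (axisFun (fun p => f (p.2, p.1)) j g) =
      if g ∈ univ.filter (fun g : G => IsConj (f (1, 1)) (g ^ j)) then (9 : ℂ) else 0 := by
    intro g
    simp only [axisFun, h.cond_iff, h.swap.cond_iff, Finset.mem_filter, Finset.mem_univ, true_and]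
    by_cases hd : IsConj (f (1, 1)) (g ^ j)
    · rw [if_pos (Or.inr hd), if_pos (Or.inr hd), if_pos hd, Complex.conj_ofNat]; norm_num
    · rw [if_neg hd]
      by_cases h0 : IsConj (f (1, 0)) (g ^ j)
      · rw [if_neg (c := IsConj (f (0, 1)) (g ^ j) ∨ _), map_zero, mul_zero]
        rintro (h1 | h1)
        · obtain ⟨ε, δ, -, -, he⟩ := h.fus _ _ (h0.trans h1.symm)
          simp only [Prod.mk.injEq, mul_zero] at he
          exact one_ne_zero he.2
        · exact hd h1
      · rw [if_neg (by tauto), zero_mul]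
  rw [classInner, axisFun_inner hboth, inv_mul_eq_one₀ (Nat.cast_ne_zero.2 Nat.card_pos.ne'),
    ← h2]
  push_cast; ring

end CfsgLib.NineTwo
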