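import Cfsg.Agent.NineTwo.Columns
import Cfsg.Agent.Char.PowPart

/-!
# The sizes of the 3-sections in the case of four sign changes

`g ^ j` is the 3-part of `g`.
-/

set_option autoImplicit false
set_option linter.unusedSectionVars false
set_option linter.style.haveILetI false

namespace CfsgLib.NineTwo

open Finset Cfsg CfsgLib.Char CfsgLib.Block CfsgLib.SectionCount
open scoped Classical

universe u

section general

variable {K : Type u} [Group K] [Finite K] {j : ℕ}

/-- The elements with a given 3-part. -/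
theorem card_part_eq {y : K} (hy : y ^ j = y) :
    Nat.card {g : K // g ^ j = y} =
      Nat.card {v : Subgroup.centralizer ({y} : Set K) // (v : K) ^ j = 1} := by
  have hcm : ∀ g : K, g ^ j = y → Commute y g := fun g h => h ▸ Commute.pow_self g j
  refine Nat.card_congr
    { toFun := fun g => ⟨⟨y⁻¹ * g.1, Subgroup.mem_centralizer_singleton_iff.2
        (((Commute.refl y).inv_right.mul_right (hcm g.1 g.2)).eq).symm⟩, ?_⟩
      invFun := fun v => ⟨y * (v.1 : K), ?_⟩
      left_inv := fun g => Subtype.ext (by simp)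
      right_inv := fun v => Subtype.ext (Subtype.ext (by simp)) }
  · show (y⁻¹ * g.1) ^ j = 1
    rw [(hcm g.1 g.2).inv_left.mul_pow, inv_pow, hy, g.2, inv_mul_cancel]
  · have h : Commute y (v.1 : K) := (Subgroup.mem_centralizer_singleton_iff.1 v.1.2).symm
    rw [h.mul_pow, hy, v.2, mul_one]

/-- The elements whose 3-part is conjugate to `y`. -/
theorem card_part_conj {y : K} (hy : y ^ j = y) :
    Nat.card {g : K // IsConj y (g ^ j)} * Nat.card (Subgroup.centralizer ({y} : Set K)) =
      Nat.card K * Nat.card {v : Subgroup.centralizer ({y} : Set K) // (v : K) ^ j = 1} := by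
  haveI := Fintype.ofFinite K
  let π : {g : K // IsConj y (g ^ j)} → {x : K // IsConj y x} := fun g => ⟨g.1 ^ j, g.2⟩
  have hfib : ∀ x : {x : K // IsConj y x},
      Nat.card {g : {g : K // IsConj y (g ^ j)} // π g = x} = Nat.card {g : K // g ^ j = y} := by
    rintro ⟨x, hx⟩
    obtain ⟨c, hc⟩ := isConj_iff.1 hx
    refine Nat.card_congr
      { toFun := fun g => ⟨c⁻¹ * g.1.1 * c, ?_⟩
        invFun := fun g => ⟨⟨c * g.1 * c⁻¹, ?_⟩, ?_⟩
        left_inv := fun g => Subtype.ext (Subtype.ext (by group))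
        right_inv := fun g => Subtype.ext (by group) }
    · have h : g.1.1 ^ j = x := congrArg Subtype.val g.2
      have hp : (c⁻¹ * g.1.1 * c) ^ j = c⁻¹ * g.1.1 ^ j * c := by
        simpa using conj_pow (i := j) (a := c⁻¹) (b := g.1.1)
      rw [hp, h, ← hc]
      group
    · rw [conj_pow, g.2, hc]; exact hx
    · exact Subtype.ext (show (c * g.1 * c⁻¹) ^ j = x by rw [conj_pow, g.2, hc])
  rw [← Nat.card_congr (Equiv.sigmaFiberEquiv π), Nat.card_sigma,
    Finset.sum_congr rfl fun x _ => hfib x, Finset.sum_const, Finset.card_univ, smul_eq_mul,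
    ← Nat.card_eq_fintype_card, card_part_eq hy, mul_right_comm,
    card_conj_class_mul_card_centralizer]

end general

variable {G : Type u} [Group G] [Fintype G] {m j : ℕ}

/-- The part of a centraliser with 3-nilpotent envelope. -/
theorem nine_mul_regular [Fact (Nat.Prime 3)] (hcard : Nat.card G = 9 * m) (hm : ¬ 3 ∣ m)
    (hj1 : j ≡ 1 [MOD 9]) (hj0 : j ≡ 0 [MOD m]) (P : Sylow 3 G)
    (h9 : Nat.card (P : Subgroup G) = 9) {x : G} (hidx : (core 3 x).index = 3 ^ 2)
    {D : Subgroup G} (hD : D ≤ Subgroup.centralizer ({x} : Set G)) (hPD : (P : Subgroup G) ≤ D) :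
    9 * Nat.card {v : D // (v : G) ^ j = 1} = Nat.card D := by
  set N := core 3 x
  haveI : N.Normal := CfsgLib.Solvable.pPrimeCore_normal 3
  let φ : D →* Subgroup.centralizer ({x} : Set G) ⧸ N :=
    (QuotientGroup.mk' N).comp (Subgroup.inclusion hD)
  have hj3 : ¬ 3 ∣ j := fun h => by
    have h1 : j % 9 = 1 % 9 := hj1
    obtain ⟨t, rfl⟩ := h
    omega
  have hker : ∀ v : D, φ v = 1 ↔ (v : G) ^ j = 1 := by
    intro v
    show QuotientGroup.mk' N (Subgroup.inclusion hD v) = 1 ↔ _
    rw [QuotientGroup.mk'_apply, QuotientGroup.eq_one_iff]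
    constructor
    · intro h
      have h3 : ¬ 3 ∣ orderOf (v : G) := by
        rw [← Subgroup.coe_inclusion hD v, Subgroup.orderOf_coe]
        exact SectionCount.not_dvd_orderOf Nat.prime_three h
      refine orderOf_dvd_iff_pow_eq_one.1 ((Nat.Coprime.dvd_of_dvd_mul_left ?_
        (hcard ▸ orderOf_dvd_natCard (v : G))).trans (Nat.modEq_zero_iff_dvd.1 hj0))
      rw [show (9 : ℕ) = 3 ^ 2 by norm_num]
      exact Nat.Coprime.pow_right 2 (Nat.prime_three.coprime_iff_not_dvd.2 h3).symm
    · intro h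
      refine mem_core hidx ?_
      rw [← Subgroup.orderOf_coe, Subgroup.coe_inclusion]
      exact fun h3 => hj3 (h3.trans (orderOf_dvd_of_pow_eq_one h))
  have hrange : Nat.card φ.range = 9 := by
    refine le_antisymm ?_ ?_
    · refine (Subgroup.card_le_card_group _).trans (le_of_eq ?_)
      exact hidx
    · rw [← h9]
      refine Nat.card_le_card_of_injective
        (fun v : (P : Subgroup G) => (⟨φ ⟨v, hPD v.2⟩, ⟨_, rfl⟩⟩ : φ.range)) ?_
      intro v w h
      have h1 : φ ((⟨v, hPD v.2⟩ : D)⁻¹ * ⟨w, hPD w.2⟩) = 1 := by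
        rw [map_mul, map_inv, inv_mul_eq_one]
        exact congrArg Subtype.val h
      rw [hker] at h1
      have h2 : ((v : G)⁻¹ * w) ^ 9 = 1 := orderOf_dvd_iff_pow_eq_one.1
        (h9 ▸ Subgroup.orderOf_dvd_natCard _ (mul_mem (inv_mem v.2) w.2))
      have h3 : ((v : G)⁻¹ * w) ^ j = (v : G)⁻¹ * w := by
        rw [← Nat.div_add_mod j 9, show j % 9 = 1 from hj1, pow_add, pow_mul, h2, one_pow, one_mul,
          pow_one]
      exact Subtype.ext (inv_mul_eq_one.1 (h3.symm.trans h1))
  have h := Subgroup.card_mul_index φ.ker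
  rw [Subgroup.index_ker, hrange] at h
  rw [← h, mul_comm]
  congr 1
  exact (Nat.card_congr (Equiv.subtypeEquivRight fun v => by rw [MonoidHom.mem_ker, hker v])).symm

theorem three_cases : ∀ k : ZMod 3, k = 0 ∨ k = 1 ∨ k = 2 := by decide

theorem pm_cases : ∀ k : ZMod 3, k ≠ 0 → k = 1 ∨ k = -1 := by decide

theorem two_zero : ((2 : ZMod 3), (0 : ZMod 3)) = (1, 0) + (1, 0) := by decide

theorem neg_one_mul_neg_one : (-1 : ZMod 3) * -1 = 1 := by decide

section four

variable {P : Sylow 3 G} {f : ZMod 3 × ZMod 3 → G}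

theorem FourFusion.swap (h : FourFusion (P : Subgroup G) f) :
    FourFusion (P : Subgroup G) fun p => f (p.2, p.1) where
  add p q := h.add (p.2, p.1) (q.2, q.1)
  inj p q e := by
    have := h.inj e
    simp only [Prod.mk.injEq] at this
    exact Prod.ext this.2 this.1
  mem p := h.mem _
  surj x hx := by
    obtain ⟨p, hp⟩ := h.surj x hx
    exact ⟨(p.2, p.1), hp⟩
  act n hn := by
    obtain ⟨ε, δ, hε, hδ, hp⟩ := h.act n hn
    exact ⟨δ, ε, hδ, hε, fun p => hp _⟩
  real ε δ hε hδ := by
    obtain ⟨n, hn, hp⟩ := h.real δ ε hδ hε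
    exact ⟨n, hn, fun p => hp _⟩
  fus p q hc := by
    obtain ⟨ε, δ, hε, hδ, hp⟩ := h.fus _ _ hc
    simp only [Prod.mk.injEq] at hp
    exact ⟨δ, ε, hδ, hε, Prod.ext hp.2 hp.1⟩

theorem FourFusion.pow_nine (h : FourFusion (P : Subgroup G) f)
    (h9 : Nat.card (P : Subgroup G) = 9) (p : ZMod 3 × ZMod 3) : f p ^ 9 = 1 :=
  orderOf_dvd_iff_pow_eq_one.1 (h9 ▸ Subgroup.orderOf_dvd_natCard _ (h.mem p))

theorem FourFusion.order_dvd (h : FourFusion (P : Subgroup G) f)
    (h9 : Nat.card (P : Subgroup G) = 9) (p : ZMod 3 × ZMod 3) : orderOf (f p) ∣ 9 :=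
  orderOf_dvd_of_pow_eq_one (h.pow_nine h9 p)

theorem FourFusion.core_diag [Fact (Nat.Prime 3)] (h : FourFusion (P : Subgroup G) f)
    (h9 : Nat.card (P : Subgroup G) = 9) (hP : IsMulCommutative (P : Subgroup G)) :
    (core 3 (f (1, 1))).index = 3 ^ 2 := by
  refine core_index P h9 hP (h.mem _) fun n hn hfix y hy => ?_
  obtain ⟨ε, δ, -, -, hp⟩ := h.act n hn
  have h1 : (ε * 1, δ * 1) = ((1 : ZMod 3), (1 : ZMod 3)) := h.inj ((hp (1, 1)).symm.trans hfix)
  simp only [mul_one, Prod.mk.injEq] at h1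
  obtain ⟨p, rfl⟩ := h.surj y hy
  rw [hp, h1.1, h1.2, one_mul, one_mul]

theorem FourFusion.commute_diag (h : FourFusion (P : Subgroup G) f) {v : G}
    (h1 : Commute v (f (1, 0))) (i : ZMod 3) (hy : Commute v (f (i, 1))) :
    Commute v (f (1, 1)) := by
  have hk : ∀ k : ZMod 3, Commute v (f (k, 0)) := by
    intro k
    obtain rfl | rfl | rfl := three_cases k
    · rw [show ((0 : ZMod 3), (0 : ZMod 3)) = 0 from rfl, coords_zero h.add]
      exact Commute.one_right v
    · exact h1
    · rw [two_zero, h.add]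
      exact h1.mul_right h1
  rw [show ((1 : ZMod 3), (1 : ZMod 3)) = (1 - i, 0) + (i, 1) by simp, h.add]
  exact (hk _).mul_right hy

/-- The number of 3'-elements of the centraliser of an axis. -/
theorem FourFusion.axis_regular [Fact (Nat.Prime 3)] (hcard : Nat.card G = 9 * m) (hm : ¬ 3 ∣ m)
    (hj1 : j ≡ 1 [MOD 9]) (hj0 : j ≡ 0 [MOD m]) (h : FourFusion (P : Subgroup G) f)
    (h9 : Nat.card (P : Subgroup G) = 9) (hP : IsMulCommutative (P : Subgroup G)) :
    9 * Nat.card {v : Subgroup.centralizer ({f (1, 0)} : Set G) // (v : G) ^ j = 1} =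
      2 * Nat.card (Subgroup.centralizer ({f (1, 0)} : Set G)) := by
  set C₁ := Subgroup.centralizer ({f (1, 0)} : Set G) with hC₁
  have hmemC : ∀ p, f p ∈ C₁ := fun p => Subgroup.mem_centralizer_singleton_iff.2 (by
    rw [← h.add, ← h.add, add_comm])
  have hself : ∀ p, (⟨f p, hmemC p⟩ : C₁) ^ j = ⟨f p, hmemC p⟩ := fun p => Subtype.ext (by
    show f p ^ j = f p
    exact pow_part_eq_self hj1 hj0 (h.pow_nine h9 p))
  have hPC : (P : Subgroup G) ≤ C₁ := fun y hy => by
    obtain ⟨p, rfl⟩ := h.surj y hy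
    exact hmemC p
  have hpow9 : ∀ g : G, (g ^ j) ^ 9 = 1 := fun g => pow_part_pow hj1 hj0 hcard.dvd g
  let y : ZMod 3 → C₁ := fun i => ⟨f (i, 1), hmemC _⟩
  let e : ZMod 3 → C₁ := fun i => ⟨f (i, 0), hmemC _⟩
  -- conjugacy in the centraliser keeps the first coordinate
  have hkeep : ∀ p r, ∀ c : C₁, (c : G) * f p * (c : G)⁻¹ = f r →
      p.1 = r.1 ∧ (p.2 = 0 ↔ r.2 = 0) := by
    intro p r c hc
    obtain ⟨ε₁, δ, _, hδ, hr⟩ := h.fus p r (isConj_iff.2 ⟨c, hc⟩)
    have h2 : p.2 = 0 ↔ r.2 = 0 := by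
      rw [hr]
      refine ⟨fun h => by simp [h], fun h => ?_⟩
      have := congrArg (δ * ·) h
      simpa [← mul_assoc, hδ] using this
    have hcx : ∀ k : ZMod 3, (c : G) * f (k, 0) * (c : G)⁻¹ = f (k, 0) := by
      intro k
      obtain rfl | rfl | rfl := three_cases k
      · rw [show ((0 : ZMod 3), (0 : ZMod 3)) = 0 from rfl, coords_zero h.add, mul_one,
          mul_inv_cancel]
      · rw [Subgroup.mem_centralizer_singleton_iff.1 c.2, mul_inv_cancel_right]
      · rw [two_zero, h.add, conj_mul.symm,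
          Subgroup.mem_centralizer_singleton_iff.1 c.2, mul_inv_cancel_right]
    have hshift : (c : G) * f (0, p.2) * (c : G)⁻¹ = f (r.1 - p.1, r.2) := by
      have e1 : ((0 : ZMod 3), p.2) = (-p.1, 0) + p := by ext <;> simp
      have e2 : ((r.1 - p.1, r.2) : ZMod 3 × ZMod 3) = (-p.1, 0) + r := by ext <;> simp <;> ring
      rw [e1, e2, h.add, h.add, ← conj_mul, hcx, hc]
    obtain ⟨ε, δ', _, _, hr'⟩ := h.fus _ _ (isConj_iff.2 ⟨c, hshift⟩)
    simp only [Prod.mk.injEq, mul_zero] at hr'
    exact ⟨(sub_eq_zero.1 hr'.1).symm, h2⟩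
  -- labels
  have hex : ∀ g : C₁, ∃ p, ∃ c : C₁, (c : G) * (g : G) ^ j * (c : G)⁻¹ = f p := by
    intro g
    have hp : IsPGroup 3 (Subgroup.zpowers (g ^ j)) := by
      refine isPGroup_zpowers (orderOf_dvd_of_pow_eq_one (Subtype.ext ?_))
      show ((g : G) ^ j) ^ 9 = 1
      exact hpow9 _
    obtain ⟨Q, hQ⟩ := hp.exists_le_sylow
    obtain ⟨c, hc⟩ := MulAction.exists_smul_eq C₁ Q (P.subtype hPC)
    have hmem : c * g ^ j * c⁻¹ ∈ ((c • Q : Sylow 3 C₁) : Subgroup C₁) := by
      rw [Sylow.coe_subgroup_smul]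
      exact ⟨g ^ j, hQ (Subgroup.mem_zpowers _), rfl⟩
    rw [hc] at hmem
    obtain ⟨p, hp⟩ := h.surj _ (show ((c * g ^ j * c⁻¹ : C₁) : G) ∈ (P : Subgroup G) from hmem)
    exact ⟨p, c, hp.symm⟩
  choose lab hlab using hex
  let L : C₁ → ZMod 3 × Bool := fun g => ((lab g).1, decide ((lab g).2 = 0))
  have huniq : ∀ (g : C₁) (r : ZMod 3 × ZMod 3) (d : C₁),
      (d : G) * f r * (d : G)⁻¹ = (g : G) ^ j → L g = (r.1, decide (r.2 = 0)) := by
    intro g r d hd
    obtain ⟨c, hc⟩ := hlab g
    have hc' : ((c * d : C₁) : G) * f r * ((c * d : C₁) : G)⁻¹ = f (lab g) := by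
      rw [← hc, ← hd, Subgroup.coe_mul]; group
    obtain ⟨h1, h2⟩ := hkeep r (lab g) (c * d) hc'
    exact Prod.ext h1.symm (decide_eq_decide.2 h2.symm)
  have hclass : ∀ i, Nat.card {g : C₁ // L g = (i, false)} * 9 = Nat.card C₁ := by
    intro i
    have hD : 9 * Nat.card {v : Subgroup.centralizer ({y i} : Set C₁) // (v : C₁) ^ j = 1} =
        Nat.card (Subgroup.centralizer ({y i} : Set C₁)) := by
      set D := (Subgroup.centralizer ({y i} : Set C₁)).map C₁.subtype with hD
      have hle : D ≤ Subgroup.centralizer ({f (1, 1)} : Set G) := by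
        rintro _ ⟨v, hv, rfl⟩
        rw [Subgroup.mem_centralizer_singleton_iff]
        exact (h.commute_diag (Subgroup.mem_centralizer_singleton_iff.1 v.2) i
          (congrArg Subtype.val (Subgroup.mem_centralizer_singleton_iff.1 hv))).eq
      have hPD : (P : Subgroup G) ≤ D := fun z hz => ⟨⟨z, hPC hz⟩,
        Subgroup.mem_centralizer_singleton_iff.2
          (Subtype.ext (setLike_mul_comm (S := Subgroup G) hz (h.mem _))), rfl⟩
      have h' := nine_mul_regular hcard hm hj1 hj0 P h9 (h.core_diag h9 hP) hle hPD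
      rw [Nat.card_congr ((Subgroup.centralizer ({y i} : Set C₁)).equivMapOfInjective C₁.subtype
        C₁.subtype_injective).toEquiv, ← h']
      congr 1
      refine Nat.card_congr (Equiv.subtypeEquiv ((Subgroup.centralizer ({y i} : Set C₁)).equivMapOfInjective
        C₁.subtype C₁.subtype_injective).toEquiv fun v => ?_)
      show (v : C₁) ^ j = 1 ↔ ((v : C₁) : G) ^ j = 1
      exact ⟨fun h => congrArg Subtype.val h, fun h => Subtype.ext h⟩
    have hiff : ∀ g : C₁, L g = (i, false) ↔ IsConj (y i) (g ^ j) := by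
      intro g
      constructor
      · intro hL
        obtain ⟨c, hc⟩ := hlab g
        simp only [L, Prod.mk.injEq, decide_eq_false_iff_not] at hL
        have hb : (lab g).2 = 1 ∨ (lab g).2 = -1 :=
          pm_cases _ hL.2
        have hstep : IsConj (y i) (⟨f (lab g), hmemC _⟩ : C₁) := by
          rcases hb with hb | hb
          · rw [show lab g = (i, 1) from Prod.ext hL.1 hb]
          · obtain ⟨n, -, hn⟩ := h.real 1 (-1) (one_mul 1) (neg_one_mul_neg_one)
            have hnC : n ∈ C₁ := Subgroup.mem_centralizer_singleton_iff.2 (by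
              have := hn (1, 0)
              simp only [one_mul, mul_zero] at this
              exact (mul_inv_eq_iff_eq_mul.1 this))
            refine isConj_iff.2 ⟨⟨n, hnC⟩, Subtype.ext ?_⟩
            show n * f (i, 1) * n⁻¹ = f (lab g)
            rw [hn, show lab g = (i, -1) from Prod.ext hL.1 hb]
            simp
        refine hstep.trans (isConj_iff.2 ⟨c⁻¹, Subtype.ext ?_⟩)
        show ((c⁻¹ : C₁) : G) * f (lab g) * ((c⁻¹ : C₁) : G)⁻¹ = (g : G) ^ j
        rw [← hc, Subgroup.coe_inv]; group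
      · intro hc
        obtain ⟨d, hd⟩ := isConj_iff.1 hc
        rw [huniq g (i, 1) d (congrArg Subtype.val hd)]
        simp
    have hpos : 0 < Nat.card (Subgroup.centralizer ({y i} : Set C₁)) := Nat.card_pos
    have hc := card_part_conj (hself (i, 1))
    rw [Nat.card_congr (Equiv.subtypeEquivRight hiff)]
    refine Nat.eq_of_mul_eq_mul_right hpos ?_
    rw [mul_right_comm, hc, ← hD]
    ring
  have haxis : ∀ i, Nat.card {g : C₁ // L g = (i, true)} =
      Nat.card {v : C₁ // (v : G) ^ j = 1} := by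
    intro i
    have hiff : ∀ g : C₁, L g = (i, true) ↔ (g : G) ^ j = f (i, 0) := by
      intro g
      constructor
      · intro hL
        obtain ⟨c, hc⟩ := hlab g
        simp only [L, Prod.mk.injEq, decide_eq_true_eq] at hL
        rw [show lab g = (i, 0) from Prod.ext hL.1 hL.2] at hc
        have hz : Commute (c : G) (f (i, 0)) := by
          obtain rfl | rfl | rfl := three_cases i
          · rw [show ((0 : ZMod 3), (0 : ZMod 3)) = 0 from rfl, coords_zero h.add]
            exact Commute.one_right _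
          · exact Subgroup.mem_centralizer_singleton_iff.1 c.2
          · rw [two_zero, h.add]
            have h1 : Commute (c : G) (f (1, 0)) := Subgroup.mem_centralizer_singleton_iff.1 c.2
            exact h1.mul_right h1
        have h1 : (g : G) ^ j = (c : G)⁻¹ * f (i, 0) * c := by rw [← hc]; group
        rw [h1, mul_assoc, ← hz.eq, inv_mul_cancel_left]
      · intro hg
        rw [huniq g (i, 0) 1 (by rw [Subgroup.coe_one, one_mul, inv_one, mul_one, hg])]
        simp
    have he : Subgroup.centralizer ({e i} : Set C₁) = ⊤ := by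
      refine eq_top_iff.2 fun c _ => Subgroup.mem_centralizer_singleton_iff.2 (Subtype.ext ?_)
      show (c : G) * f (i, 0) = f (i, 0) * c
      obtain rfl | rfl | rfl := three_cases i
      · rw [show ((0 : ZMod 3), (0 : ZMod 3)) = 0 from rfl, coords_zero h.add, mul_one, one_mul]
      · exact Subgroup.mem_centralizer_singleton_iff.1 c.2
      · rw [two_zero, h.add]
        have h1 : Commute (c : G) (f (1, 0)) := Subgroup.mem_centralizer_singleton_iff.1 c.2
        exact (h1.mul_right h1).eq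
    rw [Nat.card_congr (Equiv.subtypeEquivRight fun g => (hiff g).trans
      (show _ ↔ g ^ j = e i from ⟨fun hh => Subtype.ext hh, fun hh => congrArg Subtype.val hh⟩)),
      card_part_eq (hself (i, 0)), he]
    exact Nat.card_congr (Equiv.subtypeEquiv Subgroup.topEquiv.toEquiv fun v => by
      show (v : C₁) ^ j = 1 ↔ ((v : C₁) : G) ^ j = 1
      exact ⟨fun h => congrArg Subtype.val h, fun h => Subtype.ext h⟩)
  have hsum : Nat.card C₁ = ∑ k : ZMod 3 × Bool, Nat.card {g : C₁ // L g = k} := by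
    rw [← Nat.card_sigma, Nat.card_congr (Equiv.sigmaFiberEquiv L)]
  rw [Fintype.sum_prod_type] at hsum
  simp only [Fintype.sum_bool, haxis, Finset.sum_add_distrib, Finset.sum_const, Finset.card_univ,
    ZMod.card, smul_eq_mul] at hsum
  have h3 : (∑ i : ZMod 3, Nat.card {g : C₁ // L g = (i, false)}) * 9 = 3 * Nat.card C₁ := by
    rw [Finset.sum_mul, Finset.sum_congr rfl fun i _ => hclass i, Finset.sum_const, Finset.card_univ,
      ZMod.card, smul_eq_mul]
  omega

/-- The elements with 3-part conjugate to the axis. -/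
theorem FourFusion.card_axis [Fact (Nat.Prime 3)] (hcard : Nat.card G = 9 * m) (hm : ¬ 3 ∣ m)
    (hj1 : j ≡ 1 [MOD 9]) (hj0 : j ≡ 0 [MOD m]) (h : FourFusion (P : Subgroup G) f)
    (h9 : Nat.card (P : Subgroup G) = 9) (hP : IsMulCommutative (P : Subgroup G)) :
    9 * Nat.card {g : G // IsConj (f (1, 0)) (g ^ j)} = 2 * Nat.card G := by
  have hc := card_part_conj (pow_part_eq_self hj1 hj0 (h.pow_nine h9 (1, 0)))
  refine Nat.eq_of_mul_eq_mul_right (Nat.card_pos (α := Subgroup.centralizer ({f (1, 0)} : Set G))) ?_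
  rw [mul_assoc, hc, mul_left_comm, h.axis_regular hcard hm hj1 hj0 h9 hP]
  ring

/-- The elements with 3-part conjugate to the diagonal. -/
theorem FourFusion.card_diag [Fact (Nat.Prime 3)] (hcard : Nat.card G = 9 * m) (hm : ¬ 3 ∣ m)
    (hj1 : j ≡ 1 [MOD 9]) (hj0 : j ≡ 0 [MOD m]) (h : FourFusion (P : Subgroup G) f)
    (h9 : Nat.card (P : Subgroup G) = 9) (hP : IsMulCommutative (P : Subgroup G)) :
    9 * Nat.card {g : G // IsConj (f (1, 1)) (g ^ j)} = Nat.card G := by
  have hc := card_part_conj (pow_part_eq_self hj1 hj0 (h.pow_nine h9 (1, 1)))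
  refine Nat.eq_of_mul_eq_mul_right (Nat.card_pos (α := Subgroup.centralizer ({f (1, 1)} : Set G))) ?_
  rw [mul_assoc, hc, mul_left_comm,
    nine_mul_regular hcard hm hj1 hj0 P h9 (h.core_diag h9 hP) le_rfl fun y hy =>
      Subgroup.mem_centralizer_singleton_iff.2 (setLike_mul_comm (S := Subgroup G) hy (h.mem _))]

end four

end CfsgLib.NineTwo
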