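import Cfsg.Agent.NineTwo.InvVectors
import Cfsg.Agent.NineTwo.Arith
import Cfsg.Agent.NineTwo.Parity

/-!
# Inverted Sylow 3-subgroup: the degrees and the counting of inverting involutions
-/

set_option autoImplicit false
set_option linter.unusedSectionVars false
set_option linter.style.haveILetI false

namespace CfsgLib.NineTwo

open Finset Cfsg CfsgLib.Block CfsgLib.Block.Chr CfsgLib.Char CfsgLib.SectionCount
open scoped ComplexConjugate Classical

universe u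

variable {G : Type u} [Group G] [Fintype G] [IsSimpleGroup G] [Fintype (IrrCharacter G)]
  {q a b : ℕ} [Fact (Nat.Prime 3)]

theorem exists_nonone {R : Subgroup G} (hR : IsMulCommutative R) (h : 2 ≤ Nat.card R) :
    ∃ l, l ∈ nonone R := by
  refine Finset.card_pos.1 ?_
  rw [nonone, Finset.card_erase_of_mem (one_mem_irr R), card_irr_comm hR]
  omega

/-- The degrees: `b = 1` and `q` is seven or seventeen, with the two characters. -/
theorem inv_degrees {M : Ideal AlgInt} [M.IsPrime] (hM : IsPModular 3 M) (hG : ¬ IsMulCommutative G)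
    (hq : q.Prime) (hq2 : q ≠ 2) (hq3 : q ≠ 3) (hcard : Nat.card G = 9 * 2 ^ a * q ^ b)
    (P : Sylow 3 G) (hfus : InvFusion (P : Subgroup G)) :
    b = 1 ∧ ∃ C ∈ prin G M, C ≠ oneIrr G ∧
      ((q = 7 ∧ charDegree (C : G → ℂ) = 8) ∨ (q = 17 ∧ charDegree (C : G → ℂ) = 17)) ∧
      ∀ l ∈ nonone (P : Subgroup G), ∃ D ∈ prin G M, D ≠ oneIrr G ∧
        charDegree (D : G → ℂ) + 1 = charDegree (C : G → ℂ) ∧
        (∀ y : G, ¬ 3 ∣ orderOf y → (D : G → ℂ) y = (C : G → ℂ) y - 1) ∧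
        ∀ f : IrrCharacter G → ℂ, ∑ χ ∈ prin G M, (avec (P : Subgroup G) χ l : ℂ) * f χ =
            -f (oneIrr G) + f C - f D := by
  have h9 := card_sylow hq hq3 hcard P
  have hP := sylow_comm hq hq3 hcard P
  obtain ⟨C, hCB, hC1, δ, hδ, hCcong, hD⟩ := inv_vectors hM P h9 hP hfus
  have hneC : (C : G → ℂ) ≠ fun _ => 1 := fun e => hC1 (Subtype.ext e)
  have hC2 := two_le_degree hG hneC
  have hmain : ∀ l ∈ nonone (P : Subgroup G), ∃ D ∈ prin G M, D ≠ oneIrr G ∧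
      ∃ ε : ℤ, δ * charDegree (C : G → ℂ) + ε * charDegree (D : G → ℂ) = 1 ∧
        (ε = 1 ∨ ε = -1) ∧ (charDegree (D : G → ℂ) : ℤ) % 9 = (2 * ε) % 9 ∧
        2 ≤ charDegree (D : G → ℂ) ∧
        (∀ y : G, ¬ 3 ∣ orderOf y → (δ : ℂ) * (C : G → ℂ) y + (ε : ℂ) * (D : G → ℂ) y = 1) ∧
        ∀ f : IrrCharacter G → ℂ, ∑ χ ∈ prin G M, (avec (P : Subgroup G) χ l : ℂ) * f χ =
            -f (oneIrr G) + δ * f C + ε * f D := by
    intro l hl
    obtain ⟨D, hDB, hD1, -, ε, hε, hDcong, hreg, hf⟩ := hD l hl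
    refine ⟨D, hDB, hD1, ε, ?_, hε, hDcong,
      two_le_degree hG fun e => hD1 (Subtype.ext e), hreg, hf⟩
    have h := hreg 1 (by rw [orderOf_one]; norm_num)
    rw [(irr_one C).1, (irr_one D).1] at h
    exact_mod_cast h
  obtain ⟨l₀, hl₀⟩ := exists_nonone hP (by omega)
  obtain ⟨D, hDB, hD1, ε, heq, hε, hDcong, hD2, -, -⟩ := hmain l₀ hl₀
  have hdC := degree_dvd C
  have hdD := degree_dvd D
  rw [hcard] at hdC hdD
  have hC3 : ¬ 3 ∣ charDegree (C : G → ℂ) := by omega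
  have hD3 : ¬ 3 ∣ charDegree (D : G → ℂ) := by omega
  obtain ⟨x, y, hxy, hx, hy⟩ : ∃ (x : ℕ) (F : IrrCharacter G), (charDegree (F : G → ℂ) = q) ∧
      ((x = charDegree (C : G → ℂ) ∧ x + 1 = charDegree (D : G → ℂ)) ∨
        (x = charDegree (D : G → ℂ) ∧ x + 1 = charDegree (C : G → ℂ))) ∧
      ((∃ i, x = 2 ^ i ∧ x + 1 = q) ∨ (∃ i, x = q ∧ x + 1 = 2 ^ i)) := by
    rcases hδ with rfl | rfl <;> rcases hε with rfl | rfl <;> simp only [one_mul, neg_one_mul] at heq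
    · omega
    · have he : charDegree (D : G → ℂ) + 1 = charDegree (C : G → ℂ) := by omega
      rcases consecutive hq hq2 hq3 hD2 hdD (he ▸ hdC) hD3 (he ▸ hC3) with ⟨i, h1, h2⟩ | ⟨i, h1, h2⟩
      · exact ⟨_, C, by omega, Or.inr ⟨rfl, he⟩, Or.inl ⟨i, h1, h2⟩⟩
      · exact ⟨_, D, h1, Or.inr ⟨rfl, he⟩, Or.inr ⟨i, h1, h2⟩⟩
    · have he : charDegree (C : G → ℂ) + 1 = charDegree (D : G → ℂ) := by omega
      rcases consecutive hq hq2 hq3 hC2 hdC (he ▸ hdD) hC3 (he ▸ hD3) with ⟨i, h1, h2⟩ | ⟨i, h1, h2⟩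
      · exact ⟨_, D, by omega, Or.inl ⟨rfl, he⟩, Or.inl ⟨i, h1, h2⟩⟩
      · exact ⟨_, C, h1, Or.inl ⟨rfl, he⟩, Or.inr ⟨i, h1, h2⟩⟩
    · omega
  obtain rfl := b_eq_one hG hq hq2 hq3 hcard hxy
  rw [pow_one] at hcard
  have hqle := q_le hG hq hq2 hq3 hcard
  have hx2 : 2 ≤ x := by omega
  have hsm := small_pairs hq hq3 hqle hx2 hy
  have hfinal : δ = 1 ∧ ((q = 7 ∧ charDegree (C : G → ℂ) = 8) ∨
      (q = 17 ∧ charDegree (C : G → ℂ) = 17)) := by
    rcases hδ with rfl | rfl <;> rcases hε with rfl | rfl <;>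
      rcases hsm with ⟨rfl, rfl⟩ | ⟨rfl, rfl⟩ | ⟨rfl, rfl⟩ <;>
      rcases hx with ⟨h1, h2⟩ | ⟨h1, h2⟩ <;> omega
  obtain ⟨rfl, hcases⟩ := hfinal
  refine ⟨rfl, C, hCB, hC1, hcases, fun l hl => ?_⟩
  obtain ⟨E, hEB, hE1, η, heqE, hη, -, hE2, hreg, hf⟩ := hmain l hl
  obtain rfl : η = -1 := by
    rcases hη with rfl | rfl
    · omega
    · rfl
  refine ⟨E, hEB, hE1, by omega, fun z hz => ?_, fun f => ?_⟩
  · have h := hreg z hz
    push_cast at h
    linear_combination -h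
  · rw [hf f]
    push_cast
    ring

/-- The number of ordered pairs of involutions from two classes with product in `x O(C(x))`,
where `O` is the core. -/
noncomputable def pairCount (x s u : G) : ℕ :=
  Nat.card {pr : G × G // IsConj s pr.1 ∧ IsConj u pr.2 ∧
    ∃ v : centralizerPPrimeCore 3 x, pr.1 * pr.2 = x * v}

theorem pairCount_eq (x s u : G) : (pairCount x s u : ℂ) =
    ∑ᶠ v : core 3 x, ((((univ.filter (IsConj s)) ×ˢ (univ.filter (IsConj u))).filter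
      fun pr : G × G => pr.1 * pr.2 = x * ((v : Subgroup.centralizer ({x} : Set G)) : G)).card : ℂ) := by
  haveI : Fintype (core 3 x) := Fintype.ofFinite _
  rw [finsum_eq_sum_of_fintype, ← Nat.cast_sum, Nat.cast_inj, pairCount,
    Nat.card_eq_fintype_card, Fintype.card_subtype, ← Finset.card_biUnion]
  · refine congrArg Finset.card (Finset.ext fun pr => ?_)
    simp only [mem_filter, mem_univ, true_and, mem_biUnion, mem_product]
    constructor
    · rintro ⟨h1, h2, ⟨w, hw⟩, h3⟩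
      obtain ⟨v, hv, rfl⟩ := Subgroup.mem_map.1 hw
      exact ⟨⟨v, hv⟩, ⟨h1, h2⟩, h3⟩
    · rintro ⟨v, ⟨h1, h2⟩, h3⟩
      exact ⟨h1, h2, ⟨_, Subgroup.mem_map.2 ⟨v, v.2, rfl⟩⟩, h3⟩
  · intro v _ w _ hvw
    simp only [Function.onFun, Finset.disjoint_left, mem_filter]
    rintro pr ⟨-, h1⟩ ⟨-, h2⟩
    exact hvw (Subtype.ext (Subtype.ext (mul_left_cancel (h1.symm.trans h2))))

/-- **The counting formula.** -/
theorem inv_formula (hG : ¬ IsMulCommutative G)
    (hq : q.Prime) (hq2 : q ≠ 2) (hq3 : q ≠ 3) (hcard : Nat.card G = 9 * 2 ^ a * q ^ b)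
    (P : Sylow 3 G) (hfus : InvFusion (P : Subgroup G)) :
    b = 1 ∧ ∃ (C : IrrCharacter G) (d i : ℕ), (C : G → ℂ) ≠ (fun _ => 1) ∧
      charDegree (C : G → ℂ) = d ∧ 2 ^ i ≤ 2 ^ a ∧ ((q = 7 ∧ d = 8 ∧ i = 3) ∨ (q = 17 ∧ d = 17 ∧ i = 4)) ∧
      ∀ s : G, orderOf s = 2 → 2 ^ a ∣ Nat.card (Subgroup.centralizer ({s} : Set G)) →
        (C : G → ℂ) s = (d : ℂ) - (2 ^ i : ℕ) ∧
        ∀ u : G, orderOf u = 2 → ∀ x ∈ (P : Subgroup G), x ≠ 1 →
          (pairCount x s u : ℂ) * Nat.card (Subgroup.centralizer ({s} : Set G)) *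
              Nat.card (Subgroup.centralizer ({u} : Set G)) =
            (Nat.card (core 3 x) : ℂ) * (9 * 2 ^ a) * ((d : ℂ) - (C : G → ℂ) u) := by
  obtain ⟨M, hM⟩ := exists_isPModular (p := 3) Nat.prime_three
  haveI : M.IsPrime := hM.2.1.isPrime
  have h9 := card_sylow hq hq3 hcard P
  have hP := sylow_comm hq hq3 hcard P
  obtain ⟨rfl, C, hCB, hC1, hcases, hD⟩ := inv_degrees hM hG hq hq2 hq3 hcard P hfus
  obtain ⟨l₀, hl₀⟩ := exists_nonone hP (by omega)
  obtain ⟨D₀, -, hD1, hdD, hD₀, -⟩ := hD l₀ hl₀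
  rw [pow_one] at hcard
  set d := charDegree (C : G → ℂ) with hd
  obtain ⟨i, hi⟩ : ∃ i, (q = 7 ∧ d = 8 ∧ i = 3) ∨ (q = 17 ∧ d = 17 ∧ i = 4) := by
    rcases hcases with ⟨h1, h2⟩ | ⟨h1, h2⟩
    · exact ⟨3, Or.inl ⟨h1, h2, rfl⟩⟩
    · exact ⟨4, Or.inr ⟨h1, h2, rfl⟩⟩
  obtain ⟨F, hFdeg⟩ : ∃ F : IrrCharacter G, charDegree (F : G → ℂ) = 2 ^ i := by
    rcases hi with ⟨-, h2, rfl⟩ | ⟨-, h2, rfl⟩
    · exact ⟨C, by rw [← hd, h2]; norm_num⟩
    · exact ⟨D₀, by norm_num; omega⟩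
  have hia : 2 ^ i ≤ 2 ^ a := by
    have h := degree_dvd F
    rw [hFdeg, hcard, mul_assoc] at h
    refine Nat.le_of_dvd (by positivity) ?_
    refine Nat.Coprime.dvd_of_dvd_mul_right ?_ (Nat.Coprime.dvd_of_dvd_mul_left ?_ h)
    · exact Nat.Coprime.pow_left _ ((Nat.coprime_primes Nat.prime_two hq).2 hq2.symm)
    · exact Nat.Coprime.pow_left _ (by norm_num)
  refine ⟨rfl, C, d, i, fun e => hC1 (Subtype.ext e), rfl, hia, hi, fun s hs hcen => ?_⟩
  have hs3 : ¬ 3 ∣ orderOf s := by rw [hs]; norm_num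
  have hs1 : s ≠ 1 := fun e => by rw [e, orderOf_one] at hs; omega
  have hodd : ¬ 2 ∣ 9 * q := fun h => by
    rcases Nat.prime_two.dvd_mul.1 h with h | h
    · norm_num at h
    · exact hq2 ((Nat.prime_dvd_prime_iff_eq Nat.prime_two hq).1 h).symm
  have hCs : (C : G → ℂ) s = (d : ℂ) - (2 ^ i : ℕ) := by
    rcases hi with ⟨-, h2, rfl⟩ | ⟨-, h2, rfl⟩
    · rw [apply_eq_zero_central hG (χ := C) (show Nat.card G = 2 ^ a * (9 * q) by rw [hcard]; ring)
        hodd (i := 3) (by norm_num) (by rw [← hd, h2]; norm_num) hs1 hcen, h2]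
      norm_num
    · have h := hD₀ s hs3
      rw [apply_eq_zero_central hG (χ := D₀) (show Nat.card G = 2 ^ a * (9 * q) by rw [hcard]; ring)
        hodd (i := 4) (by norm_num) (by norm_num; omega) hs1 hcen] at h
      rw [h2]
      norm_num
      linear_combination -h
  refine ⟨hCs, fun u hu x hx hx1 => ?_⟩
  have hu3 : ¬ 3 ∣ orderOf u := by rw [hu]; norm_num
  set X : (P : Subgroup G) := ⟨x, hx⟩
  have hX1 : X ≠ 1 := fun e => hx1 (congrArg Subtype.val e)
  have hord : orderOf x ∣ 9 := h9 ▸ Subgroup.orderOf_dvd_natCard _ hx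
  obtain ⟨k, -, hk⟩ := (Nat.dvd_prime_pow Nat.prime_three).1 (hord.trans (dvd_of_eq (by norm_num : 9 = 3 ^ 2)))
  have hidx := hfus.core h9 hP hx hx1
  haveI : Fintype (core 3 x) := Fintype.ofFinite _
  have hpairs := card_pairs hM hk hidx s u
  -- the value of the block sum
  set E : ℂ := (C : G → ℂ) s * (C : G → ℂ) u / (d : ℂ) -
    ((C : G → ℂ) s - 1) * ((C : G → ℂ) u - 1) / ((d : ℂ) - 1) - 1 with hE
  have hsum : ∑ χ ∈ prin G M, conj ((χ : G → ℂ) x) * (χ : G → ℂ) s * (χ : G → ℂ) u / (χ : G → ℂ) 1 =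
      -E := by
    have hconj : ∀ χ : IrrCharacter G, conj ((χ : G → ℂ) x) = (χ : G → ℂ) X := fun χ => by
      rw [← IsCharacter.apply_inv (IsIrrCharacter.isCharacter χ.2), hfus.apply_inv χ X]
    rw [Finset.sum_congr rfl fun (χ : IrrCharacter G) _ => show conj ((χ : G → ℂ) x) * (χ : G → ℂ) s * (χ : G → ℂ) u /
        (χ : G → ℂ) 1 = ∑ l ∈ nonone (P : Subgroup G), l X *
          ((avec (P : Subgroup G) χ l : ℂ) * ((χ : G → ℂ) s * (χ : G → ℂ) u / (χ : G → ℂ) 1)) by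
      rw [hconj χ, value_eq hP χ hX1, Finset.sum_mul, Finset.sum_mul, Finset.sum_div]
      exact Finset.sum_congr rfl fun l _ => by ring,
      Finset.sum_comm, Finset.sum_congr rfl fun l hl => show _ = l X * E by
        obtain ⟨D, -, -, hdl, hDl, hf⟩ := hD l hl
        rw [← Finset.mul_sum, hf, hDl s hs3, hDl u hu3, oneIrr_coe, (irr_one C).1, (irr_one D).1,
          ← hd, hE, show (charDegree (D : G → ℂ) : ℂ) = (d : ℂ) - 1 by
            rw [← hdl]; push_cast; ring]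
        ring,
      ← Finset.sum_mul]
    have h0 := sum_irr_apply hP hX1
    rw [← Finset.add_sum_erase _ _ (one_mem_irr (P : Subgroup G))] at h0
    rw [nonone]
    linear_combination E * h0
  have hEval : -E * (q : ℂ) = (d : ℂ) - (C : G → ℂ) u := by
    rw [hE, hCs]
    rcases hi with ⟨rfl, h2, rfl⟩ | ⟨rfl, h2, rfl⟩ <;> rw [h2] <;> push_cast <;> ring
  -- the section sum
  let f : G → ℂ := fun g => ((((univ.filter (IsConj s)) ×ˢ (univ.filter (IsConj u))).filter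
    fun pr : G × G => pr.1 * pr.2 = g).card : ℂ)
  have hf : IsClassFunction G f := by
    intro g c
    simp only [f, Nat.cast_inj]
    refine Finset.card_equiv ((MulAut.conj c).toEquiv.prodCongr (MulAut.conj c).toEquiv).symm
      fun pr => ?_
    have hc : ∀ w p : G, IsConj w p ↔ IsConj w (c⁻¹ * p * c) := fun w p =>
      ⟨fun h => h.trans (isConj_iff.2 ⟨c⁻¹, by group⟩),
        fun h => h.trans (isConj_iff.2 ⟨c, by group⟩)⟩
    simp only [mem_filter, mem_product, mem_univ, true_and, Equiv.prodCongr_symm,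
      Equiv.prodCongr_apply, Prod.map, MulEquiv.toEquiv_eq_coe, MulEquiv.coe_toEquiv_symm,
      MulAut.conj_symm_apply]
    rw [← hc s, ← hc u]
    refine and_congr_right fun _ => ⟨fun h => ?_, fun h => ?_⟩
    · calc c⁻¹ * pr.1 * c * (c⁻¹ * pr.2 * c) = c⁻¹ * (pr.1 * pr.2) * c := by group
        _ = g := by rw [h]; group
    · calc pr.1 * pr.2 = c * (c⁻¹ * pr.1 * c * (c⁻¹ * pr.2 * c)) * c⁻¹ := by group
        _ = _ := by rw [h]
  have hsec := sum_section_eq Nat.prime_three hk hf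
  have hN : ((((univ.filter (IsConj s)) ×ˢ (univ.filter (IsConj u))).filter
      fun uw : G × G => uw.1 * uw.2 ∈ section' 3 x).card : ℂ) =
      ∑ g ∈ univ.filter (· ∈ section' 3 x), f g := by
    simp only [f, ← Nat.cast_sum, Nat.cast_inj]
    rw [Finset.card_eq_sum_card_fiberwise (f := fun pr : G × G => pr.1 * pr.2)
      (t := univ.filter (· ∈ section' 3 x)) fun pr h => by
        simp only [Finset.coe_filter, Set.mem_setOf_eq] at h ⊢
        exact ⟨mem_univ _, h.2⟩]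
    refine Finset.sum_congr rfl fun g hg => congrArg Finset.card ?_
    rw [Finset.filter_filter]
    refine Finset.filter_congr fun pr _ => ⟨fun h => h.2, fun h => ⟨?_, h⟩⟩
    rw [h]
    exact (mem_filter.1 hg).2
  have hpc : (pairCount x s u : ℂ) = ∑ v : core 3 x, f (x * ((v : Subgroup.centralizer ({x} : Set G)) : G)) := by
    rw [pairCount_eq, finsum_eq_sum_of_fintype]
  have hcx : (Nat.card (Subgroup.centralizer ({x} : Set G)) : ℂ) = 9 * (Nat.card (core 3 x) : ℂ) := by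
    rw [← (core 3 x).index_mul_card, hidx]
    push_cast
    norm_num
  have hcs : (Nat.card G : ℂ) = ((univ.filter (IsConj s)).card : ℂ) *
      Nat.card (Subgroup.centralizer ({s} : Set G)) := by
    rw [card_class, ← Nat.cast_mul, Subgroup.index_mul_card]
  have hcu : (Nat.card G : ℂ) = ((univ.filter (IsConj u)).card : ℂ) *
      Nat.card (Subgroup.centralizer ({u} : Set G)) := by
    rw [card_class, ← Nat.cast_mul, Subgroup.index_mul_card]
  have hcardC : (Nat.card G : ℂ) = 9 * 2 ^ a * (q : ℂ) := by rw [hcard]; push_cast; ring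
  have hGne : (Nat.card G : ℂ) ≠ 0 := Nat.cast_ne_zero.2 Nat.card_pos.ne'
  have hsum' : ∑ χ ∈ univ.filter (· ∈ principalBlock M G),
      conj ((χ : G → ℂ) x) * (χ : G → ℂ) s * (χ : G → ℂ) u / (χ : G → ℂ) 1 = -E := by
    rw [← hsum, prin]
  rw [hN, hsum', show ((3 ^ 2 : ℕ) : ℂ) = 9 by norm_num] at hpairs
  rw [hcx, ← hpc] at hsec
  refine mul_left_cancel₀ hGne (?_ : (Nat.card G : ℂ) * _ = (Nat.card G : ℂ) * _)
  set Z := (pairCount x s u : ℂ)
  set cs := (Nat.card (Subgroup.centralizer ({s} : Set G)) : ℂ)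
  set cu := (Nat.card (Subgroup.centralizer ({u} : Set G)) : ℂ)
  set K := (Nat.card (core 3 x) : ℂ)
  set N := ∑ g ∈ univ.filter (· ∈ section' 3 x), f g
  set S1 := ((univ.filter (IsConj s)).card : ℂ)
  set U1 := ((univ.filter (IsConj u)).card : ℂ)
  calc (Nat.card G : ℂ) * (Z * cs * cu) = (9 * K * N) * cs * cu := by rw [hsec]; ring
    _ = K * (N * 9) * cs * cu := by ring
    _ = K * (S1 * cs) * (U1 * cu) * -E := by rw [hpairs]; ring
    _ = K * (Nat.card G : ℂ) * ((Nat.card G : ℂ) * -E) := by rw [← hcs, ← hcu]; ring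
    _ = K * (Nat.card G : ℂ) * (9 * 2 ^ a * (-E * (q : ℂ))) := by nth_rw 2 [hcardC]; ring
    _ = _ := by rw [hEval]; ring

end CfsgLib.NineTwo
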