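import Cfsg.Agent.NineTwo.InvCounts
import Cfsg.Agent.SmallSimple.InvolValues
import Cfsg.Agent.Solvable.PGroupBasic

/-!
# Inverted Sylow 3-subgroup: the order of the group is 504 or 2448
-/

set_option autoImplicit false
set_option linter.unusedSectionVars false
set_option linter.style.haveILetI false

namespace CfsgLib.NineTwo

open Finset Cfsg CfsgLib.Block CfsgLib.Block.Chr CfsgLib.Char CfsgLib.SectionCount
open scoped ComplexConjugate Classical commutatorElement

universe u

variable {G : Type u} [Group G] [Fintype G] {q a b : ℕ}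

theorem commutator_eq_top [IsSimpleGroup G] (hG : ¬ IsMulCommutative G) : commutator G = ⊤ := by
  rcases Subgroup.Normal.eq_bot_or_eq_top (H := commutator G) inferInstance with h0 | h0
  · refine absurd ⟨⟨fun a b => ?_⟩⟩ hG
    have hmem : ⁅a, b⁆ ∈ commutator G := by
      rw [_root_.commutator_def]
      exact Subgroup.commutator_mem_commutator (Subgroup.mem_top a) (Subgroup.mem_top b)
    rw [h0, Subgroup.mem_bot, commutatorElement_eq_one_iff_mul_comm] at hmem
    exact hmem
  · exact h0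

theorem not_q_dvd_centralizer [IsSimpleGroup G] (hq : q.Prime)
    (hcard : Nat.card G = 9 * 2 ^ a * q) {w : G} (hw1 : w ≠ 1) (hw : ¬ q ∣ orderOf w) :
    ¬ q ∣ Nat.card (Subgroup.centralizer ({w} : Set G)) := by
  intro hd
  letI := irrFintype (G := G)
  haveI := Fact.mk hq
  obtain ⟨z, hz⟩ := exists_prime_orderOf_dvd_card' q hd
  have hzG : orderOf (z : G) = q := by rw [Subgroup.orderOf_coe, hz]
  have hmem : w ∈ Subgroup.centralizer ({(z : G)} : Set G) :=
    Subgroup.mem_centralizer_singleton_iff.2 (Subgroup.mem_centralizer_singleton_iff.1 z.2).symm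
  rw [centralizer_q hq hcard hzG] at hmem
  have hdvd : orderOf w ∣ q := (Subgroup.orderOf_dvd_natCard _ hmem).trans
    (dvd_of_eq (by rw [Nat.card_zpowers, hzG]))
  rcases (Nat.dvd_prime hq).1 hdvd with h | h
  · exact hw1 (orderOf_eq_one_iff.1 h)
  · exact hw (h ▸ dvd_rfl)

/-- Two involutions whose product has 3-part `x` both invert `x`. -/
theorem inverts_of_product {x v p r : G} (hp : p * p = 1) (hr : r * r = 1) (hx : orderOf x ∣ 9)
    (hxv : Commute x v) (hv : ¬ 3 ∣ orderOf v) (h : p * r = x * v) :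
    p * x * p⁻¹ = x⁻¹ ∧ r * x * r⁻¹ = x⁻¹ := by
  have hcop : Nat.Coprime 9 (orderOf v) := by
    rw [show (9 : ℕ) = 3 ^ 2 by norm_num]
    exact Nat.Coprime.pow_left _ (Nat.prime_three.coprime_iff_not_dvd.2 hv)
  obtain ⟨e, he9, hen⟩ := Nat.chineseRemainder hcop 1 0
  have hxe : (x * v) ^ e = x := by
    rw [hxv.mul_pow, orderOf_dvd_iff_pow_eq_one.1 (Nat.modEq_zero_iff_dvd.1 hen), mul_one,
      pow_eq_pow_iff_modEq.2 (Nat.ModEq.of_dvd hx he9), pow_one]
  have hpinv : p⁻¹ = p := inv_eq_of_mul_eq_one_right hp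
  have hrinv : r⁻¹ = r := inv_eq_of_mul_eq_one_right hr
  have key : ∀ w : G, w * (x * v) * w⁻¹ = (x * v)⁻¹ → w * x * w⁻¹ = x⁻¹ := by
    intro w hw
    have := congrArg (· ^ e) hw
    simp only [conj_pow, inv_pow, hxe] at this
    exact this
  refine ⟨key p ?_, key r ?_⟩
  · rw [← h, mul_inv_rev, hpinv, hrinv, ← mul_assoc, hp, one_mul]
  · rw [← h, mul_inv_rev, hpinv, hrinv, ← mul_assoc, mul_assoc, hr, mul_one]

variable [IsSimpleGroup G]

/-- **The inverted case**: `G` has order `504` or `2448`. -/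
theorem inv_order [Fact (Nat.Prime 3)] (hG : ¬ IsMulCommutative G) (hq : q.Prime) (hq2 : q ≠ 2)
    (hq3 : q ≠ 3) (hcard : Nat.card G = 9 * 2 ^ a * q ^ b) (P : Sylow 3 G)
    (hfus : InvFusion (P : Subgroup G)) :
    (q = 7 ∧ Nat.card G = 504) ∨ (q = 17 ∧ Nat.card G = 2448) := by
  letI := irrFintype (G := G)
  have h9 := card_sylow hq hq3 hcard P
  have hP := sylow_comm hq hq3 hcard P
  obtain ⟨rfl, C, d, i, hCne, hCd, hia, hi, hform⟩ := inv_formula hG hq hq2 hq3 hcard P hfus
  rw [pow_one] at hcard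
  have hai : i ≤ a := (Nat.pow_le_pow_iff_right (by norm_num)).1 hia
  have hi3 : 3 ≤ i := by rcases hi with ⟨-, -, rfl⟩ | ⟨-, -, rfl⟩ <;> norm_num
  have hq3' : ¬ 3 ∣ q := fun h => hq3 ((Nat.prime_dvd_prime_iff_eq Nat.prime_three hq).1 h).symm
  have hperf := commutator_eq_top hG
  obtain ⟨s, hs, hcen⟩ := exists_central (b := 1) hq hq2 (by rw [pow_one]; exact hcard)
    (by omega : a ≠ 0)
  obtain ⟨x, hx, hx1⟩ : ∃ x ∈ (P : Subgroup G), x ≠ 1 := by
    by_contra hc
    push Not at hc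
    rw [(Subgroup.eq_bot_iff_forall _).2 hc, Subgroup.card_bot] at h9
    omega
  have hxord : orderOf x ∣ 9 := h9 ▸ Subgroup.orderOf_dvd_natCard _ hx
  have hidx := hfus.core h9 hP hx hx1
  set Cx := Subgroup.centralizer ({x} : Set G) with hCx
  set K := core 3 x with hK
  haveI : K.Normal := CfsgLib.Solvable.pPrimeCore_normal 3
  have hK3 : ¬ 3 ∣ Nat.card K :=
    Nat.prime_three.coprime_iff_not_dvd.1 (CfsgLib.Solvable.coprime_card_pPrimeCore 3).symm
  haveI hQcomm : IsMulCommutative (Cx ⧸ K) :=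
    IsPGroup.isMulCommutative_of_card_eq_prime_sq (p := 3) hidx
  have hqcomm : ∀ A B : Cx ⧸ K, A * B = B * A := fun A B => hQcomm.is_comm.comm A B
  have hQ9 : Nat.card (Cx ⧸ K) = 9 := hidx.trans (by norm_num)
  set π := QuotientGroup.mk' K with hπ
  have hRC : (P : Subgroup G) ≤ Cx := fun y hy => Subgroup.mem_centralizer_singleton_iff.2
    (setLike_mul_comm (S := Subgroup G) hy hx)
  -- `R` maps onto the quotient
  have hπR : ∀ z : Cx ⧸ K, ∃ r : (P : Subgroup G), π ⟨r, hRC r.2⟩ = z := by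
    let φ : ↥(P : Subgroup G) → Cx ⧸ K := fun r => π ⟨r, hRC r.2⟩
    have hinj : Function.Injective φ := by
      intro r r' h
      have hmem : (⟨r, hRC r.2⟩ : Cx)⁻¹ * ⟨r', hRC r'.2⟩ ∈ K := QuotientGroup.eq.1 h
      set c : Cx := (⟨r, hRC r.2⟩ : Cx)⁻¹ * ⟨r', hRC r'.2⟩ with hc
      have h1 : orderOf c ∣ 9 := by
        rw [← Subgroup.orderOf_coe, ← h9]
        exact Subgroup.orderOf_dvd_natCard _ (mul_mem (inv_mem r.2) r'.2)
      have h2 : orderOf c ∣ Nat.card K := Subgroup.orderOf_dvd_natCard _ hmem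
      have hcop : Nat.Coprime 9 (Nat.card K) := by
        rw [show (9 : ℕ) = 3 ^ 2 by norm_num]
        exact Nat.Coprime.pow_left _ (Nat.prime_three.coprime_iff_not_dvd.2 hK3)
      have := orderOf_eq_one_iff.1 (Nat.eq_one_of_dvd_coprimes hcop h1 h2)
      rw [hc, inv_mul_eq_one] at this
      exact Subtype.ext (congrArg Subtype.val this : _)
    exact ((Nat.bijective_iff_injective_and_card φ).2 ⟨hinj, by rw [h9, hQ9]⟩).2
  -- the inverting conjugates of an involution
  let J : G → Type u := fun w => {p : G // IsConj w p ∧ p * x * p⁻¹ = x⁻¹}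
  have hJsq : ∀ {w : G}, orderOf w = 2 → ∀ p : J w, p.1 * p.1 = 1 := fun {w} hw p => by
    obtain ⟨c, hc⟩ := isConj_iff.1 p.2.1
    rw [← hc, conj_mul, ← sq, ← hw, pow_orderOf_eq_one, mul_one, mul_inv_cancel]
  have hinvert : ∀ w : G, orderOf w = 2 → ∀ v : G, orderOf v = 2 → ∀ p r : G, IsConj w p → IsConj v r →
      ∀ c : centralizerPPrimeCore 3 x, p * r = x * c →
      p * x * p⁻¹ = x⁻¹ ∧ r * x * r⁻¹ = x⁻¹ := by
    intro w hw v hv p r hp hr c hc
    have hsq : ∀ {u g : G}, orderOf u = 2 → IsConj u g → g * g = 1 := fun {u g} hu hg => by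
      obtain ⟨e, he⟩ := isConj_iff.1 hg
      rw [← he, conj_mul, ← sq, ← hu, pow_orderOf_eq_one, mul_one, mul_inv_cancel]
    obtain ⟨c', hc', hce⟩ := Subgroup.mem_map.1 c.2
    refine inverts_of_product (hsq hw hp) (hsq hv hr) hxord ?_ ?_ hc
    · rw [← hce]
      exact (Subgroup.mem_centralizer_singleton_iff.1 c'.2).symm
    · rw [← hce]
      show ¬ 3 ∣ orderOf ((c' : Cx) : G)
      rw [Subgroup.orderOf_coe]
      exact SectionCount.not_dvd_orderOf Nat.prime_three hc'
  -- the pivot involution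
  obtain ⟨hCs, hfs⟩ := hform s hs hcen
  have hpc : pairCount x s s ≠ 0 := by
    intro h0
    have h := hfs s hs x hx hx1
    rw [h0, hCs, Nat.cast_zero, zero_mul, zero_mul, sub_sub_cancel] at h
    have h' : (Nat.card K * (9 * 2 ^ a) * 2 ^ i : ℕ) = 0 := by exact_mod_cast h.symm
    have : 0 < Nat.card K * (9 * 2 ^ a) * 2 ^ i := by have := Nat.card_pos (α := K); positivity
    omega
  obtain ⟨⟨⟨t, t'⟩, hts, hts', c₀, hc₀⟩⟩ : Nonempty {pr : G × G // IsConj s pr.1 ∧ IsConj s pr.2 ∧
      ∃ v : centralizerPPrimeCore 3 x, pr.1 * pr.2 = x * v} := (Nat.card_ne_zero.1 hpc).1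
  have htx := (hinvert s hs s hs t t' hts hts' c₀ hc₀).1
  have htt : t * t = 1 := hJsq hs ⟨t, hts, htx⟩
  have htinv : t⁻¹ = t := inv_eq_of_mul_eq_one_right htt
  have htC : ∀ c : G, c ∈ Cx → t * c * t ∈ Cx := by
    intro c hc
    rw [hCx, Subgroup.mem_centralizer_singleton_iff] at hc ⊢
    have htxt : t * x * t = x⁻¹ := by rw [← htx, htinv]
    have h1 : x * t = t * x⁻¹ := by
      rw [← htxt, ← mul_assoc, ← mul_assoc, htt, one_mul]
    have h2 : t * x = x⁻¹ * t := by
      rw [← htxt, mul_assoc, htt, mul_one]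
    have h3 : c * x⁻¹ = x⁻¹ * c := by
      rw [eq_inv_mul_iff_mul_eq, ← mul_assoc, ← hc, mul_inv_cancel_right]
    calc t * c * t * x = t * c * (t * x) := by group
      _ = t * (c * x⁻¹) * t := by rw [h2]; group
      _ = (t * x⁻¹) * c * t := by rw [h3]; group
      _ = x * (t * c * t) := by rw [← h1]; group
  -- `t` inverts the quotient
  have hflip : ∀ c : Cx, π ⟨t * c * t, htC c c.2⟩ = (π c)⁻¹ := by
    let τ : Cx →* Cx :=
      { toFun := fun c => ⟨t * c * t, htC c c.2⟩
        map_one' := Subtype.ext (by simp [htt])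
        map_mul' := fun c e => Subtype.ext (by
          show t * ((c : G) * e) * t = t * c * t * (t * e * t)
          rw [show t * c * t * (t * e * t) = t * c * (t * t) * e * t by group, htt]
          group) }
    have hτK : ∀ c : Cx, c ∈ K → π (τ c) = 1 := fun c hc => by
      rw [hπ, QuotientGroup.mk'_apply, QuotientGroup.eq_one_iff]
      refine mem_core hidx ?_
      have hτ : orderOf (τ c) = orderOf c := by
        rw [← Subgroup.orderOf_coe, ← Subgroup.orderOf_coe c]
        show orderOf (t * (c : G) * t) = _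
        nth_rw 2 [← htinv]
        exact (MulAut.conj t).orderOf_eq (c : G)
      rw [hτ]
      exact SectionCount.not_dvd_orderOf Nat.prime_three hc
    obtain ⟨n, hn⟩ : ∃ n : Cx, ∀ r : (P : Subgroup G),
        (n : G) * (t * r * t) * (n : G)⁻¹ ∈ (P : Subgroup G) := by
      let Q₁ : Sylow 3 Cx := P.subtype hRC
      have hpg : IsPGroup 3 ((Q₁ : Subgroup Cx).map τ) := Q₁.2.map τ
      obtain ⟨Q₂, hQ₂⟩ := hpg.exists_le_sylow
      obtain ⟨n, hn⟩ := MulAction.exists_smul_eq Cx Q₂ Q₁
      refine ⟨n, fun r => ?_⟩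
      have hmem : n * τ ⟨r, hRC r.2⟩ * n⁻¹ ∈ ((n • Q₂ : Sylow 3 Cx) : Subgroup Cx) := by
        rw [Sylow.coe_subgroup_smul]
        exact ⟨τ ⟨r, hRC r.2⟩, hQ₂ ⟨⟨r, hRC r.2⟩, r.2, rfl⟩, rfl⟩
      rw [hn] at hmem
      exact hmem
    have hnorm : (n : G) * t ∈ Subgroup.normalizer ((P : Subgroup G) : Set G) := by
      rw [Subgroup.mem_normalizer_iff]
      refine fun y => ⟨fun hy => ?_, fun hy => ?_⟩
      · have := hn ⟨y, hy⟩
        rw [mul_inv_rev, htinv]
        simpa [mul_assoc] using this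
      · let g : ↥(P : Subgroup G) → ↥(P : Subgroup G) := fun r => ⟨_, hn r⟩
        have hg : Function.Injective g := fun r r' h => Subtype.ext (by simpa [g] using h)
        obtain ⟨r, hr⟩ := (Finite.injective_iff_surjective.1 hg) ⟨_, hy⟩
        have hr' : (n : G) * (t * r * t) * (n : G)⁻¹ = (n : G) * t * y * ((n : G) * t)⁻¹ :=
          congrArg Subtype.val hr
        rw [mul_inv_rev, htinv] at hr'
        have : (r : G) = y := by simpa [mul_assoc] using hr'
        exact this ▸ r.2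
    have hneg : ∀ r ∈ (P : Subgroup G), (n : G) * t * r * ((n : G) * t)⁻¹ = r⁻¹ := by
      refine (hfus.act _ hnorm).resolve_left fun h => hx1 ?_
      have h1 := h x hx
      rw [mul_inv_rev, show (n : G) * t * x * (t⁻¹ * (n : G)⁻¹) = (n : G) * (t * x * t⁻¹) * (n : G)⁻¹ by group,
        htx, ← conj_inv, Subgroup.mem_centralizer_singleton_iff.1 n.2, mul_inv_cancel_right] at h1
      have h2 : x ^ 2 = 1 := by rw [sq]; nth_rw 1 [← h1]; rw [inv_mul_cancel]
      have h3 : orderOf x ∣ Nat.gcd 2 9 := Nat.dvd_gcd (orderOf_dvd_of_pow_eq_one h2) hxord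
      exact orderOf_eq_one_iff.1 (Nat.eq_one_of_dvd_one (by simpa using h3))
    intro c
    obtain ⟨r, hr⟩ := hπR (π c)
    have hce : (⟨r, hRC r.2⟩ : Cx)⁻¹ * c ∈ K := QuotientGroup.eq.1 hr
    have h1 : π (τ c) = π (τ ⟨r, hRC r.2⟩) := by
      have h := hτK _ hce
      rw [map_mul, map_inv, map_mul, map_inv, inv_mul_eq_one] at h
      exact h.symm
    have h2 : n * τ ⟨r, hRC r.2⟩ * n⁻¹ = (⟨r, hRC r.2⟩ : Cx)⁻¹ := Subtype.ext (by
      show (n : G) * (t * r * t) * (n : G)⁻¹ = (r : G)⁻¹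
      rw [← hneg r r.2, mul_inv_rev, htinv]
      group)
    show π (τ c) = _
    rw [h1, ← hr]
    have h3 := congrArg π h2
    rwa [map_mul, map_mul, map_inv, map_inv, hqcomm (π n), mul_inv_cancel_right] at h3
  -- labels
  have hlabC : ∀ {w : G} (p : J w), p.1 * t ∈ Cx := fun {w} p => by
    rw [hCx, Subgroup.mem_centralizer_singleton_iff]
    have h1 : p.1 * t * x * (p.1 * t)⁻¹ = x := by
      rw [show p.1 * t * x * (p.1 * t)⁻¹ = p.1 * (t * x * t⁻¹) * p.1⁻¹ by group, htx, ← conj_inv,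
        p.2.2, inv_inv]
    rwa [mul_inv_eq_iff_eq_mul] at h1
  let lab : ∀ w : G, J w → Cx ⧸ K := fun w p => π ⟨p.1 * t, hlabC p⟩
  let fib : G → Cx ⧸ K → ℕ := fun w z => Nat.card {p : J w // lab w p = z}
  have hconjJ : ∀ (w : G) (c : Cx) (p : J w),
      IsConj w ((c : G) * p.1 * (c : G)⁻¹) ∧
        ((c : G) * p.1 * (c : G)⁻¹) * x * ((c : G) * p.1 * (c : G)⁻¹)⁻¹ = x⁻¹ := by
    intro w c p
    have hc := Subgroup.mem_centralizer_singleton_iff.1 c.2
    have h1 : (c : G)⁻¹ * x * c = x := by rw [mul_assoc, ← hc, inv_mul_cancel_left]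
    refine ⟨p.2.1.trans (isConj_iff.2 ⟨c, rfl⟩), ?_⟩
    calc ((c : G) * p.1 * (c : G)⁻¹) * x * ((c : G) * p.1 * (c : G)⁻¹)⁻¹
        = (c : G) * (p.1 * ((c : G)⁻¹ * x * c) * p.1⁻¹) * (c : G)⁻¹ := by group
      _ = (c : G) * x⁻¹ * (c : G)⁻¹ := by rw [h1, p.2.2]
      _ = x⁻¹ := by rw [← conj_inv, hc, mul_inv_cancel_right]
  have hlabconj : ∀ (w : G) (c : Cx) (p : J w),
      lab w ⟨_, hconjJ w c p⟩ = π c * lab w p * π c := by
    intro w c p
    have he : (⟨(c : G) * p.1 * (c : G)⁻¹ * t, hlabC (⟨_, hconjJ w c p⟩ : J w)⟩ : Cx) =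
        c * ⟨p.1 * t, hlabC p⟩ * ⟨t * ((c⁻¹ : Cx) : G) * t, htC _ (c⁻¹).2⟩ := Subtype.ext (by
      show (c : G) * p.1 * (c : G)⁻¹ * t = (c : G) * (p.1 * t) * (t * ((c⁻¹ : Cx) : G) * t)
      rw [Subgroup.coe_inv, show (c : G) * (p.1 * t) * (t * (c : G)⁻¹ * t) =
        (c : G) * p.1 * (t * t) * (c : G)⁻¹ * t by group, htt, mul_one])
    show π _ = _
    rw [he, map_mul, map_mul, hflip, map_inv, inv_inv]
  have hfib : ∀ w z, fib w z = fib w 1 := by
    intro w z
    have hsq : ∃ r, r * r = z := by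
      refine ⟨z ^ 5, ?_⟩
      rw [← pow_add, show 5 + 5 = Nat.card (Cx ⧸ K) + 1 by rw [hQ9], pow_succ, pow_card_eq_one',
        one_mul]
    obtain ⟨r, hr⟩ := hsq
    obtain ⟨c, rfl⟩ := QuotientGroup.mk'_surjective K r
    subst hr
    refine (Nat.card_congr (α := {p : J w // lab w p = 1})
      (β := {p : J w // lab w p = π c * π c})
      { toFun := fun p => ⟨⟨_, hconjJ w c p.1⟩, by
          rw [hlabconj, p.2, mul_one]⟩
        invFun := fun p => ⟨⟨_, hconjJ w c⁻¹ p.1⟩, by
          rw [hlabconj, p.2, map_inv]; group⟩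
        left_inv := fun p => Subtype.ext (Subtype.ext (by
          show ((c⁻¹ : Cx) : G) * ((c : G) * p.1.1 * (c : G)⁻¹) * ((c⁻¹ : Cx) : G)⁻¹ = p.1.1
          rw [Subgroup.coe_inv]; group))
        right_inv := fun p => Subtype.ext (Subtype.ext (by
          show (c : G) * (((c⁻¹ : Cx) : G) * p.1.1 * ((c⁻¹ : Cx) : G)⁻¹) * (c : G)⁻¹ = p.1.1
          rw [Subgroup.coe_inv]; group)) }).symm
  haveI : ∀ w, Finite (J w) := fun w => Subtype.finite
  have hJcard : ∀ w, Nat.card (J w) = 9 * fib w 1 := by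
    intro w
    haveI := Fintype.ofFinite (Cx ⧸ K)
    rw [← Nat.card_congr (Equiv.sigmaFiberEquiv (lab w)), Nat.card_sigma]
    rw [Finset.sum_congr rfl fun z _ => hfib w z, Finset.sum_const, Finset.card_univ,
      ← Nat.card_eq_fintype_card, hQ9, smul_eq_mul]
  have hcount : ∀ u : G, orderOf u = 2 → pairCount x s u = 9 * fib s 1 * fib u 1 := by
    intro u hu
    set xC : Cx := ⟨x, hRC hx⟩
    have hsplit : ∀ (p : J s) (r : J u), p.1 * r.1 = (p.1 * t) * (r.1 * t)⁻¹ := fun p r => by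
      rw [mul_inv_rev, htinv, inv_eq_of_mul_eq_one_right (hJsq hu r),
        show p.1 * t * (t * r.1) = p.1 * (t * t) * r.1 by group, htt, mul_one]
    have hiff : ∀ (p : J s) (r : J u),
        (∃ v : centralizerPPrimeCore 3 x, p.1 * r.1 = x * v) ↔
          lab u r = (π xC)⁻¹ * lab s p := by
      intro p r
      have hkey : π (⟨p.1 * t, hlabC p⟩ * (⟨r.1 * t, hlabC r⟩ : Cx)⁻¹) = π xC ↔
          lab u r = (π xC)⁻¹ * lab s p := by
        rw [map_mul, map_inv]
        show lab s p * (lab u r)⁻¹ = π xC ↔ _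
        constructor
        · intro h; rw [← h, mul_inv_rev, inv_inv, hqcomm _ (lab s p)⁻¹, mul_assoc, hqcomm (lab u r),
            inv_mul_cancel_left]
        · intro h; rw [h, mul_inv_rev, inv_inv, mul_inv_cancel_left]
      rw [← hkey]
      constructor
      · rintro ⟨v, hv⟩
        obtain ⟨c, hc, hce⟩ := Subgroup.mem_map.1 v.2
        have he : (⟨p.1 * t, hlabC p⟩ : Cx) * (⟨r.1 * t, hlabC r⟩ : Cx)⁻¹ = xC * c := Subtype.ext (by
          show (p.1 * t) * (r.1 * t)⁻¹ = x * (c : G)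
          rw [← hsplit, hv, ← hce]
          rfl)
        rw [he, map_mul, hπ, QuotientGroup.mk'_apply K c, (QuotientGroup.eq_one_iff c).2 hc, mul_one]
      · intro h
        have hmem := QuotientGroup.eq.1 h.symm
        refine ⟨⟨_, Subgroup.mem_map.2 ⟨_, hmem, rfl⟩⟩, ?_⟩
        rw [hsplit]
        simp [xC]
    rw [pairCount]
    rw [Nat.card_congr (β := (p : J s) × {r : J u // lab u r = (π xC)⁻¹ * lab s p})
      { toFun := fun w =>
          have h := w.2.2.2
          ⟨⟨w.1.1, w.2.1, (hinvert s hs u hu _ _ w.2.1 w.2.2.1 _ h.choose_spec).1⟩,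
            ⟨w.1.2, w.2.2.1, (hinvert s hs u hu _ _ w.2.1 w.2.2.1 _ h.choose_spec).2⟩,
            (hiff _ _).1 h⟩
        invFun := fun w => ⟨(w.1.1, w.2.1.1), w.1.2.1, w.2.1.2.1, (hiff _ _).2 w.2.2⟩
        left_inv := fun w => rfl
        right_inv := fun w => rfl }]
    haveI := Fintype.ofFinite (J s)
    rw [Nat.card_sigma, Finset.sum_congr rfl fun p _ => hfib u _, Finset.sum_const, Finset.card_univ,
      ← Nat.card_eq_fintype_card, hJcard, smul_eq_mul]
  -- no involution centralises `R`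
  have hformU : ∀ u : G, orderOf u = 2 → ((fib s 1 * fib u 1 *
      Nat.card (Subgroup.centralizer ({s} : Set G)) * Nat.card (Subgroup.centralizer ({u} : Set G)) : ℕ) : ℂ) =
      ((Nat.card K * 2 ^ a : ℕ) : ℂ) * ((d : ℂ) - (C : G → ℂ) u) := by
    intro u hu
    have h := hfs u hu x hx hx1
    rw [hcount u hu] at h
    push_cast at h ⊢
    linear_combination h / 9
  have hnoinv : ∀ u : G, orderOf u = 2 → ¬ ∀ r ∈ (P : Subgroup G), r * u = u * r := by
    intro u hu hcomm
    obtain ⟨Y, hY, h4, hYlo, hYhi⟩ := CfsgLib.InvolValues.invol_mod_four hperf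
      (IsIrrCharacter.isCharacter C.2) (t := u) (by rw [← sq, ← hu, pow_orderOf_eq_one])
      ((irr_one C).1.trans (by rw [hCd]))
    have h := hformU u hu
    rw [hY] at h
    have h' : ((fib s 1 * fib u 1 * Nat.card (Subgroup.centralizer ({s} : Set G)) *
        Nat.card (Subgroup.centralizer ({u} : Set G)) : ℕ) : ℤ) =
        ((Nat.card K * 2 ^ a : ℕ) : ℤ) * ((d : ℤ) - Y) := by exact_mod_cast h
    have h9u : 9 ∣ Nat.card (Subgroup.centralizer ({u} : Set G)) := h9 ▸ Subgroup.card_dvd_of_le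
      fun r hr => Subgroup.mem_centralizer_singleton_iff.2 (hcomm r hr)
    have hdvd : (9 : ℤ) ∣ ((Nat.card K * 2 ^ a : ℕ) : ℤ) * ((d : ℤ) - Y) := by
      rw [← h']
      exact Int.natCast_dvd_natCast.2 (h9u.mul_left _)
    have hcop : IsCoprime (9 : ℤ) ((Nat.card K * 2 ^ a : ℕ) : ℤ) := by
      refine Int.isCoprime_iff_nat_coprime.2 ?_
      rw [Int.natAbs_natCast, show (9 : ℤ).natAbs = 3 ^ 2 by norm_num]
      refine Nat.Coprime.pow_left _ (Nat.prime_three.coprime_iff_not_dvd.2 fun h => ?_)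
      rcases Nat.prime_three.dvd_mul.1 h with h | h
      · exact hK3 h
      · have := (Nat.prime_dvd_prime_iff_eq Nat.prime_three Nat.prime_two).1
          (Nat.prime_three.dvd_of_dvd_pow h)
        omega
    have h9Y := hcop.dvd_of_dvd_mul_left hdvd
    have hd17 : d ≤ 17 := by rcases hi with ⟨-, h, -⟩ | ⟨-, h, -⟩ <;> omega
    have hYd : Y = d := by omega
    refine absurd (faithful hCne u ?_) fun e => by rw [e, orderOf_one] at hu; omega
    rw [hY, hYd, (irr_one C).1, hCd, Int.cast_natCast]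
  -- the core meets the centraliser of `R` trivially
  have hxq : ¬ q ∣ orderOf x := fun hd => hq3 ((Nat.prime_dvd_prime_iff_eq hq Nat.prime_three).1
    (hq.dvd_of_dvd_pow (show q ∣ 3 ^ 2 from hd.trans (hxord.trans (dvd_of_eq (by norm_num))))))
  have hKdvd : Nat.card K ∣ 2 ^ a := by
    have h1 : Nat.card K ∣ 9 * 2 ^ a * q := hcard ▸
      (Subgroup.card_subgroup_dvd_card K).trans (Subgroup.card_subgroup_dvd_card Cx)
    have h2 : ¬ q ∣ Nat.card K := fun h => not_q_dvd_centralizer hq hcard hx1 hxq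
      (h.trans (Subgroup.card_subgroup_dvd_card K))
    refine Nat.Coprime.dvd_of_dvd_mul_left ?_ (Nat.Coprime.dvd_of_dvd_mul_right
      ((hq.coprime_iff_not_dvd.2 h2).symm) h1)
    rw [show (9 : ℕ) = 3 ^ 2 by norm_num]
    exact Nat.Coprime.pow_right _ (Nat.prime_three.coprime_iff_not_dvd.2 hK3).symm
  have hKR : ∀ c : Cx, c ∈ K → (∀ r ∈ (P : Subgroup G), r * (c : G) = (c : G) * r) → c = 1 := by
    intro c hc hcomm
    obtain ⟨j, -, hj⟩ := (Nat.dvd_prime_pow Nat.prime_two).1
      ((Subgroup.orderOf_dvd_natCard _ hc).trans hKdvd)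
    cases j with
    | zero => exact orderOf_eq_one_iff.1 (by rw [hj, pow_zero])
    | succ j =>
      refine absurd (fun r hr => (show Commute r (c : G) from hcomm r hr).pow_right (2 ^ j) |>.eq)
        (hnoinv _ ?_)
      rw [orderOf_pow' _ (pow_ne_zero _ two_ne_zero), Subgroup.orderOf_coe, hj,
        Nat.gcd_eq_right (pow_dvd_pow 2 (Nat.le_succ j)), Nat.pow_div (Nat.le_succ j) (by norm_num)]
      norm_num
  -- centralisers of central involutions
  have hcentral : ∀ w : G, orderOf w = 2 → 2 ^ a ∣ Nat.card (Subgroup.centralizer ({w} : Set G)) →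
      ∀ z ∈ (P : Subgroup G), z ≠ 1 → ∀ m, (m : ℕ) = pairCount z w w →
      m * Nat.card (Subgroup.centralizer ({w} : Set G)) * Nat.card (Subgroup.centralizer ({w} : Set G)) =
        Nat.card (core 3 z) * (9 * 2 ^ a) * 2 ^ i := by
    intro w hw hwc z hz hz1 m hm
    obtain ⟨hCw, hfw⟩ := hform w hw hwc
    have h := hfw w hw z hz hz1
    rw [hCw, ← hm, sub_sub_cancel] at h
    exact_mod_cast h
  have hfs' := hcentral s hs hcen x hx hx1 _ rfl
  rw [hcount s hs] at hfs'
  set m := fib s 1 with hm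
  set cs := Nat.card (Subgroup.centralizer ({s} : Set G))
  have hmain : m * m * (cs * cs) = Nat.card K * 2 ^ a * 2 ^ i := by
    have h2 : 9 * (m * m * (cs * cs)) = 9 * (Nat.card K * 2 ^ a * 2 ^ i) := by
      calc 9 * (m * m * (cs * cs)) = 9 * m * m * cs * cs := by ring
        _ = _ := by rw [hfs']; ring
    exact Nat.eq_of_mul_eq_mul_left (by norm_num) h2
  have hno3 : ∀ w : G, orderOf w = 2 → 2 ^ a ∣ Nat.card (Subgroup.centralizer ({w} : Set G)) →
      ¬ 3 ∣ Nat.card (Subgroup.centralizer ({w} : Set G)) := by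
    intro w hw hwc h3
    have h := hcentral w hw hwc x hx hx1 _ rfl
    by_cases h0 : pairCount x w w = 0
    · rw [h0, zero_mul, zero_mul] at h
      have : 0 < Nat.card K * (9 * 2 ^ a) * 2 ^ i := by have := Nat.card_pos (α := K); positivity
      exact absurd h.symm (Nat.ne_of_gt this)
    obtain ⟨⟨⟨p, p'⟩, hp, hp', v, hv⟩⟩ : Nonempty {pr : G × G // IsConj w pr.1 ∧ IsConj w pr.2 ∧
        ∃ v : centralizerPPrimeCore 3 x, pr.1 * pr.2 = x * v} := (Nat.card_ne_zero.1 h0).1
    have h9' : 9 ∣ pairCount x w w := by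
      rcases eq_or_ne (Nat.card (J w)) 0 with h1 | h1
      · exact absurd h1 (Nat.card_ne_zero.2
          ⟨⟨⟨p, hp, (hinvert w hw w hw p p' hp hp' v hv).1⟩⟩, inferInstance⟩)
      have hsplit : ∀ (p : J w) (r : J w), p.1 * r.1 = (p.1 * t) * (r.1 * t)⁻¹ := fun p r => by
        rw [mul_inv_rev, htinv, inv_eq_of_mul_eq_one_right (hJsq hw r),
          show p.1 * t * (t * r.1) = p.1 * (t * t) * r.1 by group, htt, mul_one]
      have key : pairCount x w w = Nat.card (J w) * fib w 1 := by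
        rw [pairCount]
        rw [Nat.card_congr (β := (p : J w) × {r : J w // lab w r = (π ⟨x, hRC hx⟩)⁻¹ * lab w p})
          { toFun := fun e =>
              have h := e.2.2.2
              ⟨⟨e.1.1, e.2.1, (hinvert w hw w hw _ _ e.2.1 e.2.2.1 _ h.choose_spec).1⟩,
                ⟨e.1.2, e.2.2.1, (hinvert w hw w hw _ _ e.2.1 e.2.2.1 _ h.choose_spec).2⟩, by
                  obtain ⟨c, hc, hce⟩ := Subgroup.mem_map.1 h.choose.2
                  set p₁ : J w := ⟨e.1.1, e.2.1,
                    (hinvert w hw w hw _ _ e.2.1 e.2.2.1 _ h.choose_spec).1⟩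
                  set r₁ : J w := ⟨e.1.2, e.2.2.1,
                    (hinvert w hw w hw _ _ e.2.1 e.2.2.1 _ h.choose_spec).2⟩
                  have he : (⟨p₁.1 * t, hlabC p₁⟩ : Cx) * (⟨r₁.1 * t, hlabC r₁⟩ : Cx)⁻¹ =
                      ⟨x, hRC hx⟩ * c := Subtype.ext (by
                    show (p₁.1 * t) * (r₁.1 * t)⁻¹ = x * (c : G)
                    rw [← hsplit]
                    refine h.choose_spec.trans ?_
                    rw [← hce]
                    rfl)
                  have h1 := congrArg π he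
                  rw [map_mul, map_inv, map_mul, hπ, QuotientGroup.mk'_apply K c,
                    (QuotientGroup.eq_one_iff c).2 hc, mul_one] at h1
                  show lab w r₁ = _
                  rw [hπ, ← h1]
                  show lab w r₁ = (lab w p₁ * (lab w r₁)⁻¹)⁻¹ * lab w p₁
                  rw [mul_inv_rev, inv_inv, mul_assoc, inv_mul_cancel, mul_one]⟩
            invFun := fun e => ⟨(e.1.1, e.2.1.1), e.1.2.1, e.2.1.2.1, by
              have h1 : π (⟨e.1.1 * t, hlabC e.1⟩ * (⟨e.2.1.1 * t, hlabC e.2.1⟩ : Cx)⁻¹) =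
                  π ⟨x, hRC hx⟩ := by
                rw [map_mul, map_inv]
                show lab w e.1 * (lab w e.2.1)⁻¹ = _
                rw [e.2.2, mul_inv_rev, inv_inv, mul_inv_cancel_left]
              refine ⟨⟨_, Subgroup.mem_map.2 ⟨_, QuotientGroup.eq.1 h1.symm, rfl⟩⟩, ?_⟩
              rw [hsplit]
              simp⟩
            left_inv := fun e => rfl
            right_inv := fun e => rfl }]
        haveI := Fintype.ofFinite (J w)
        rw [Nat.card_sigma, Finset.sum_congr rfl fun p _ => hfib w _, Finset.sum_const,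
          Finset.card_univ, ← Nat.card_eq_fintype_card, smul_eq_mul]
      rw [key, hJcard, mul_assoc]
      exact Dvd.intro _ rfl
    obtain ⟨e, he⟩ := h9'
    obtain ⟨f, hf⟩ := h3
    rw [he, hf] at h
    have h' : 3 ∣ Nat.card K * 2 ^ a * 2 ^ i := ⟨3 * e * f * f, by
      have h2 : 9 * (Nat.card K * 2 ^ a * 2 ^ i) = 9 * (3 * (3 * e * f * f)) := by
        calc 9 * (Nat.card K * 2 ^ a * 2 ^ i) = Nat.card K * (9 * 2 ^ a) * 2 ^ i := by ring
          _ = _ := by rw [← h]; ring
      omega⟩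
    rcases Nat.prime_three.dvd_mul.1 h' with h'' | h''
    · rcases Nat.prime_three.dvd_mul.1 h'' with h3' | h3'
      · exact hK3 h3'
      · have := (Nat.prime_dvd_prime_iff_eq Nat.prime_three Nat.prime_two).1
          (Nat.prime_three.dvd_of_dvd_pow h3')
        omega
    · have := (Nat.prime_dvd_prime_iff_eq Nat.prime_three Nat.prime_two).1
        (Nat.prime_three.dvd_of_dvd_pow h'')
      omega
  have hs2 : cs = 2 ^ a := by
    refine Nat.dvd_antisymm ?_ hcen
    have hsq : ¬ q ∣ cs := not_q_dvd_centralizer hq hcard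
      (fun e => by rw [e, orderOf_one] at hs; omega)
      (by rw [hs]; exact fun h => hq2 ((Nat.prime_dvd_prime_iff_eq hq Nat.prime_two).1 h))
    refine Nat.Coprime.dvd_of_dvd_mul_left ?_ (Nat.Coprime.dvd_of_dvd_mul_right
      ((hq.coprime_iff_not_dvd.2 hsq).symm) (hcard ▸ Subgroup.card_subgroup_dvd_card _))
    rw [show (9 : ℕ) = 3 ^ 2 by norm_num]
    exact Nat.Coprime.pow_right _ (Nat.prime_three.coprime_iff_not_dvd.2 (hno3 s hs hcen)).symm
  have hmK : m * m * 2 ^ a = Nat.card K * 2 ^ i := by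
    rw [hs2] at hmain
    exact Nat.eq_of_mul_eq_mul_right (show 0 < 2 ^ a by positivity)
      (by calc m * m * 2 ^ a * 2 ^ a = m * m * (2 ^ a * 2 ^ a) := by ring
            _ = _ := by rw [hmain]; ring)
  -- the core is trivial
  have hm0 : m ≠ 0 := fun h => by
    rw [h, zero_mul, zero_mul] at hmK
    have : 0 < Nat.card K * 2 ^ i := by have := Nat.card_pos (α := K); positivity
    omega
  have hone : Nat.card K = 1 := by
    rcases Nat.lt_or_ge m 2 with hm1 | hm2
    · have hm1 : m = 1 := by omega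
      -- singleton fibres: the core is centralised by `R`
      have hsing : ∀ z, Subsingleton {p : J s // lab s p = z} := fun z =>
        Finite.card_le_one_iff_subsingleton.1 (le_of_eq ((hfib s z).trans hm1))
      have hcomm : ∀ (p : J s) (k : Cx), k ∈ K → (k : G) * p.1 = p.1 * (k : G) := by
        intro p k hk
        have h1 : lab s ⟨_, hconjJ s k p⟩ = lab s p := by
          rw [hlabconj, hπ, QuotientGroup.mk'_apply K k, (QuotientGroup.eq_one_iff k).2 hk, one_mul,
            mul_one]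
        haveI := hsing (lab s p)
        have h2 := congrArg (fun w : {p' : J s // lab s p' = lab s p} => w.1.1)
          (Subsingleton.elim (⟨⟨_, hconjJ s k p⟩, h1⟩ : {p' : J s // lab s p' = lab s p}) ⟨p, rfl⟩)
        simp only at h2
        rwa [mul_inv_eq_iff_eq_mul] at h2
      refine (Subgroup.eq_bot_iff_card K).1 ((Subgroup.eq_bot_iff_forall K).2 fun k hk => hKR k hk fun r hr => ?_)
      obtain ⟨⟨p, hp⟩⟩ : Nonempty {p : J s // lab s p = π ⟨r, hRC hr⟩} :=
        (Nat.card_ne_zero.1 (by rw [show Nat.card _ = _ from hfib s _, ← hm, hm1]; norm_num)).1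
      set c : Cx := ⟨p.1 * t, hlabC p⟩
      have hcK : ∀ k' : Cx, k' ∈ K → Commute c k' := fun k' hk' => Subtype.ext (by
        have h1 := hcomm p k' hk'
        have h2 := hcomm ⟨t, hts, htx⟩ k' hk'
        show p.1 * t * (k' : G) = (k' : G) * (p.1 * t)
        rw [mul_assoc, ← h2, ← mul_assoc, ← h1, mul_assoc])
      set rC : Cx := ⟨r, hRC hr⟩
      have hk₀ : rC⁻¹ * c ∈ K := QuotientGroup.eq.1 hp.symm
      obtain ⟨e, he9, heK⟩ := Nat.chineseRemainder (show Nat.Coprime 9 (Nat.card K) by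
        rw [show (9 : ℕ) = 3 ^ 2 by norm_num]
        exact Nat.Coprime.pow_left _ (Nat.prime_three.coprime_iff_not_dvd.2 hK3)) 1 0
      have hce : c ^ (9 * Nat.card K) = 1 := by
        refine orderOf_dvd_iff_pow_eq_one.1 ((orderOf_dvd_natCard c).trans (dvd_of_eq ?_))
        rw [← K.index_mul_card, hidx]
        norm_num
      set c₃ := c ^ e with hc₃
      have hc₃3 : c₃ ^ 3 ^ 2 = 1 := by
        rw [hc₃, ← pow_mul]
        obtain ⟨w, hw⟩ := Nat.modEq_zero_iff_dvd.1 heK
        rw [hw, show Nat.card K * w * 3 ^ 2 = 9 * Nat.card K * w by ring, pow_mul, hce, one_pow]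
      have hπc : π c₃ = π rC := by
        rw [hc₃, map_pow, hπ]
        show (π c) ^ e = _
        rw [show π c = π rC from hp]
        rw [pow_eq_pow_iff_modEq.2 (Nat.ModEq.of_dvd ?_ he9), pow_one]
        exact hQ9 ▸ orderOf_dvd_natCard _
      -- conjugate the 3-element into `R`
      obtain ⟨j, -, hj⟩ := (Nat.dvd_prime_pow Nat.prime_three).1 (orderOf_dvd_of_pow_eq_one hc₃3)
      obtain ⟨Q₂, hQ₂⟩ := (IsPGroup.of_card (n := j) (show Nat.card (Subgroup.zpowers c₃) = 3 ^ j by
        rw [Nat.card_zpowers, hj])).exists_le_sylow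
      obtain ⟨n, hn⟩ := MulAction.exists_smul_eq Cx Q₂ (P.subtype hRC)
      have hmem : n * c₃ * n⁻¹ ∈ (P.subtype hRC : Sylow 3 Cx) := by
        rw [← hn]
        exact ⟨c₃, hQ₂ (Subgroup.mem_zpowers c₃), rfl⟩
      have heq : n * c₃ * n⁻¹ = rC := by
        obtain ⟨r', hr'⟩ : ∃ r' : (P : Subgroup G), (⟨r', hRC r'.2⟩ : Cx) = n * c₃ * n⁻¹ :=
          ⟨⟨_, hmem⟩, rfl⟩
        have h1 : π ⟨r', hRC r'.2⟩ = π rC := by
          rw [hr', map_mul, map_mul, hqcomm (π n), map_inv, mul_inv_cancel_right, hπc]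
        have hb : Function.Injective (fun r : (P : Subgroup G) => π ⟨r, hRC r.2⟩) :=
          ((Nat.bijective_iff_surjective_and_card _).2 ⟨hπR, by rw [h9, hQ9]⟩).1
        rw [← hr']
        exact Subtype.ext (congrArg Subtype.val (hb (a₁ := r') (a₂ := ⟨r, hr⟩) h1) : _)
      have hcomm' : Commute rC k := by
        have hk' : n⁻¹ * k * n ∈ K := by
          simpa using (inferInstance : K.Normal).conj_mem k hk n⁻¹
        have h1 : Commute c₃ (n⁻¹ * k * n) := (hcK _ hk').pow_left e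
        rw [← heq]
        show n * c₃ * n⁻¹ * k = k * (n * c₃ * n⁻¹)
        calc n * c₃ * n⁻¹ * k = n * (c₃ * (n⁻¹ * k * n)) * n⁻¹ := by group
          _ = n * ((n⁻¹ * k * n) * c₃) * n⁻¹ := by rw [h1.eq]
          _ = _ := by group
      exact congrArg Subtype.val hcomm'.eq
    · exfalso
      haveI : Fact (Nat.Prime 2) := ⟨Nat.prime_two⟩
      set KG : Subgroup G := centralizerPPrimeCore 3 x
      have hKG : Nat.card KG = Nat.card K :=
        Subgroup.card_map_of_injective Cx.subtype_injective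
      obtain ⟨j, -, hj⟩ := (Nat.dvd_prime_pow Nat.prime_two).1 hKdvd
      obtain ⟨S, hS⟩ := (IsPGroup.of_card (p := 2) (n := j) (hKG.trans hj)).exists_le_sylow
      have hScard : Nat.card (S : Subgroup G) = 2 ^ a :=
        CfsgLib.SmallSimple.card_sylow_eq S (k := a) (m := 9 * q) (by rw [hcard]; ring) fun h => by
          rcases Nat.prime_two.dvd_mul.1 h with h | h
          · norm_num at h
          · exact hq2 ((Nat.prime_dvd_prime_iff_eq Nat.prime_two hq).1 h).symm
      set L := KG.subgroupOf (S : Subgroup G)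
      have hLidx : L.index * Nat.card K = 2 ^ a := by
        rw [← hKG, ← Nat.card_congr (Subgroup.subgroupOfEquivOfLe hS).toEquiv, Subgroup.index_mul_card,
          hScard]
      have hidx4 : m * m * L.index = 2 ^ i :=
        Nat.eq_of_mul_eq_mul_right (Nat.card_pos (α := K)) (by
          rw [mul_assoc, hLidx, hmK, mul_comm])
      haveI := S.2.isNilpotent
      by_cases hcore : L.normalCore = ⊥
      · have hdvd : Nat.card (S : Subgroup G) ∣ L.index.factorial := by
          rw [Subgroup.normalCore_eq_ker] at hcore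
          have hinj := (MonoidHom.ker_eq_bot_iff _).1 hcore
          have := Subgroup.card_dvd_of_injective _ hinj
          rwa [Nat.card_perm, Subgroup.index_eq_card] at *
        have h4 : L.index ≤ 2 ^ i / 4 := by
          rw [Nat.le_div_iff_mul_le (by norm_num), ← hidx4]
          nlinarith [Nat.mul_le_mul hm2 hm2]
        rw [hScard] at hdvd
        have h3 : 2 ^ i ∣ L.index.factorial := (pow_dvd_pow 2 hai).trans hdvd
        rcases hi with ⟨-, -, rfl⟩ | ⟨-, -, rfl⟩ <;> norm_num at h4 h3 <;>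
          interval_cases hL : L.index <;> norm_num [Nat.factorial] at h3
      · have hne := CfsgLib.PGroupBasic.inf_center_ne_bot L.normalCore hcore
        obtain ⟨c, hc, hc1⟩ := (Subgroup.bot_or_exists_ne_one _).resolve_left hne
        obtain ⟨hcL, hcZ⟩ := Subgroup.mem_inf.1 hc
        obtain ⟨e, he⟩ := IsPGroup.iff_orderOf.1 S.2 c
        cases e with
        | zero => exact hc1 (orderOf_eq_one_iff.1 (by rw [he, pow_zero]))
        | succ e =>
          set v := c ^ 2 ^ e with hv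
          have hv2 : orderOf (v : G) = 2 := by
            rw [Subgroup.orderOf_coe, hv, orderOf_pow' _ (pow_ne_zero _ two_ne_zero), he,
              Nat.gcd_eq_right (pow_dvd_pow 2 (Nat.le_succ e)),
              Nat.pow_div (Nat.le_succ e) (by norm_num)]
            norm_num
          have hvK : (v : G) ∈ KG := pow_mem (L.normalCore_le hcL) _
          have hvS : 2 ^ a ∣ Nat.card (Subgroup.centralizer ({(v : G)} : Set G)) := by
            rw [← hScard]
            refine Subgroup.card_dvd_of_le fun g hg => Subgroup.mem_centralizer_singleton_iff.2 ?_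
            exact congrArg Subtype.val (Subgroup.mem_center_iff.1 (pow_mem hcZ (2 ^ e)) ⟨g, hg⟩)
          refine hno3 _ hv2 hvS ?_
          obtain ⟨v', -, hv'⟩ := Subgroup.mem_map.1 hvK
          have hxv : x ∈ Subgroup.centralizer ({(v : G)} : Set G) := by
            rw [Subgroup.mem_centralizer_singleton_iff, ← hv']
            exact (Subgroup.mem_centralizer_singleton_iff.1 v'.2).symm
          refine (Nat.dvd_trans ?_ (Subgroup.orderOf_dvd_natCard _ hxv))
          obtain ⟨k, -, hk⟩ := (Nat.dvd_prime_pow Nat.prime_three).1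
            (hxord.trans (dvd_of_eq (by norm_num : 9 = 3 ^ 2)))
          rw [hk]
          exact dvd_pow_self 3 fun h0 => hx1 (orderOf_eq_one_iff.1 (by rw [hk, h0, pow_zero]))
  rw [hone, one_mul] at hmK
  have ha : a = i := by
    refine le_antisymm ?_ hai
    have : 2 ^ a ∣ 2 ^ i := Dvd.intro_left _ hmK
    exact (Nat.pow_le_pow_iff_right (by norm_num)).1 (Nat.le_of_dvd (by positivity) this)
  subst ha
  rcases hi with ⟨rfl, -, rfl⟩ | ⟨rfl, -, rfl⟩
  · exact Or.inl ⟨rfl, by rw [hcard]; norm_num⟩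
  · exact Or.inr ⟨rfl, by rw [hcard]; norm_num⟩

end CfsgLib.NineTwo
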