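import Cfsg.Agent.NineTwo.Columns
import Cfsg.Agent.NineTwo.Star
import Cfsg.Agent.Char.Misc
import Cfsg.Agent.Char.Values

/-!
# The principal 3-block when the normaliser inverts the Sylow 3-subgroup
-/

set_option autoImplicit false
set_option linter.unusedSectionVars false
set_option linter.style.haveILetI false

namespace CfsgLib.NineTwo

open Finset Cfsg CfsgLib.Block CfsgLib.Block.Chr CfsgLib.Char
open scoped ComplexConjugate Classical

universe u

section linear

variable {A : Type u} [Group A] [Fintype A]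

theorem exists_hom_of_comm (hA : IsMulCommutative A) {l : A → ℂ} (hl : l ∈ irrFinset A) :
    ∃ lam : A →* ℂˣ, l = fun g => (lam g : ℂ) := by
  have hl' := mem_irrFinset.1 hl
  obtain ⟨d, hd0, hd⟩ := IsIrrCharacter.exists_degree hl'
  have hle := IsIrrCharacter.degree_le_index hl' hd ⊤
    (fun a _ b _ => hA.is_comm.comm a b)
  rw [Subgroup.index_top] at hle
  exact IsCharacter.exists_hom (IsIrrCharacter.isCharacter hl')
    (by rw [hd, show d = 1 by omega, Nat.cast_one])

theorem conj_hom_apply (lam : A →* ℂˣ) (g : A) :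
    conj (lam g : ℂ) = (lam g⁻¹ : ℂ) := by
  have hfin : IsOfFinOrder ((lam g : ℂ)) := isOfFinOrder_iff_pow_eq_one.2 ⟨Nat.card A, Nat.card_pos,
    by rw [← Units.val_pow_eq_pow_val, ← map_pow, pow_card_eq_one', map_one, Units.val_one]⟩
  rw [map_inv, Units.val_inv_eq_inv_val]
  exact (Complex.inv_eq_conj hfin.norm_eq_one).symm

theorem sum_irr_apply (hA : IsMulCommutative A) {g : A} (hg : g ≠ 1) :
    ∑ l ∈ irrFinset A, l g = 0 := by
  have h := sum_irr_mul_conj g (1 : A)
  rw [if_neg (fun h => hg (isConj_one_left.1 h))] at h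
  rw [← h]
  refine Finset.sum_congr rfl fun l hl => ?_
  obtain ⟨lam, rfl⟩ := exists_hom_of_comm hA hl
  simp

theorem card_irr_comm (hA : IsMulCommutative A) : (irrFinset A).card = Nat.card A := by
  rw [← card_irr, card_irr_eq_card_conjClasses]
  refine (Nat.card_eq_of_bijective ConjClasses.mk ⟨fun x y h => ?_, ConjClasses.mk_surjective⟩).symm
  obtain ⟨c, hc⟩ := isConj_iff.1 (ConjClasses.mk_eq_mk_iff_isConj.1 h)
  rw [← hc, hA.is_comm.comm c, mul_inv_cancel_right]

/-- A linear character fixed by inversion on a group of odd order is trivial. -/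
theorem eq_one_of_real (hA : IsMulCommutative A) (hodd : Odd (Nat.card A)) {l : A → ℂ}
    (hl : l ∈ irrFinset A) (h : (fun g => conj (l g)) = l) : l = fun _ => 1 := by
  obtain ⟨lam, rfl⟩ := exists_hom_of_comm hA hl
  funext g
  have h1 : (lam g⁻¹ : ℂ) = (lam g : ℂ) := by rw [← conj_hom_apply]; exact congrFun h g
  have h2 : lam g ^ 2 = 1 := by
    rw [sq]
    nth_rw 1 [← Units.ext h1]
    rw [map_inv, inv_mul_cancel]
  have hn : lam g ^ Nat.card A = 1 := by rw [← map_pow, pow_card_eq_one', map_one]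
  have h3 : lam g = 1 := by
    have := pow_gcd_eq_one.2 ⟨h2, hn⟩
    rwa [(Nat.prime_two.coprime_iff_not_dvd.2 hodd.not_two_dvd_nat).gcd_eq_one, pow_one] at this
  rw [h3, Units.val_one]

end linear

variable {G : Type u} [Group G] [Fintype G] (R : Subgroup G)

/-- The multiplicity of a linear character in a restriction. -/
noncomputable def mult (χ : IrrCharacter G) (l : R → ℂ) : ℤ :=
  if h : l ∈ irrFinset R then
    ((IsCharacter.exists_classInner_eq_natCast'
      (IsCharacter.restrict (IsIrrCharacter.isCharacter χ.2) R)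
      (IsIrrCharacter.isCharacter (mem_irrFinset.1 h))).choose : ℤ)
  else 0

theorem mult_spec (χ : IrrCharacter G) {l : R → ℂ} (h : l ∈ irrFinset R) :
    (mult R χ l : ℂ) = Cfsg.classInner (fun x : R => (χ : G → ℂ) x) l := by
  rw [mult, dif_pos h, Int.cast_natCast]
  exact (IsCharacter.exists_classInner_eq_natCast'
      (IsCharacter.restrict (IsIrrCharacter.isCharacter χ.2) R)
      (IsIrrCharacter.isCharacter (mem_irrFinset.1 h))).choose_spec.symm

theorem one_mem_irr : (fun _ : R => (1 : ℂ)) ∈ irrFinset R :=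
  mem_irrFinset.2 isIrrCharacter_one

/-- The non-principal linear characters. -/
noncomputable def nonone : Finset (R → ℂ) := (irrFinset R).erase fun _ => 1

/-- The difference from the multiplicity of the principal character. -/
noncomputable def avec (χ : IrrCharacter G) (l : R → ℂ) : ℤ :=
  mult R χ l - mult R χ fun _ => 1

variable {R}

theorem mem_nonone {l : R → ℂ} : l ∈ nonone R ↔ l ∈ irrFinset R ∧ l ≠ fun _ => 1 := by
  simp [nonone, and_comm]

theorem avec_sum (χ : IrrCharacter G) {l : R → ℂ} (h : l ∈ irrFinset R) :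
    (Nat.card R : ℂ) * (avec R χ l : ℂ) = ∑ x : R, (χ : G → ℂ) x * (conj (l x) - 1) := by
  rw [avec, Int.cast_sub, mult_spec R χ h, mult_spec R χ (one_mem_irr R), classInner_def,
    classInner_def, ← mul_sub, ← mul_assoc, mul_inv_cancel₀ (Nat.cast_ne_zero.2 Nat.card_pos.ne'),
    one_mul, ← Finset.sum_sub_distrib]
  refine Finset.sum_congr rfl fun x _ => ?_
  simp only [map_one]
  ring

theorem value_eq (hR : IsMulCommutative R) (χ : IrrCharacter G) {x : R} (hx : x ≠ 1) :
    (χ : G → ℂ) x = ∑ l ∈ nonone R, (avec R χ l : ℂ) * l x := by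
  have h := congrFun (eq_sum_irr (G := R) (ψ := fun x : R => (χ : G → ℂ) x)
    (IsCharacter.isClassFunction (IsCharacter.restrict (IsIrrCharacter.isCharacter χ.2) R))) x
  rw [Finset.sum_apply] at h
  simp only [Pi.smul_apply, smul_eq_mul] at h
  have h2 : ∑ l ∈ irrFinset R, (avec R χ l : ℂ) * l x =
      ∑ l ∈ nonone R, (avec R χ l : ℂ) * l x := by
    rw [nonone, Finset.sum_erase]
    simp [avec]
  rw [← h2, h, Finset.sum_congr rfl fun l hl => by rw [← mult_spec R χ hl]]
  simp only [avec, Int.cast_sub, sub_mul, Finset.sum_sub_distrib, ← Finset.mul_sum,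
    sum_irr_apply hR hx, mul_zero, sub_zero]

theorem degree_eq (hR : IsMulCommutative R) (χ : IrrCharacter G) :
    (charDegree (χ : G → ℂ) : ℤ) =
      Nat.card R * mult R χ (fun _ => 1) + ∑ l ∈ nonone R, avec R χ l := by
  have h := congrFun (eq_sum_irr (G := R) (ψ := fun x : R => (χ : G → ℂ) x)
    (IsCharacter.isClassFunction (IsCharacter.restrict (IsIrrCharacter.isCharacter χ.2) R))) 1
  rw [Finset.sum_apply] at h
  simp only [Pi.smul_apply, smul_eq_mul, OneMemClass.coe_one, (irr_one χ).1] at h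
  have h2 : ∑ l ∈ nonone R, avec R χ l = ∑ l ∈ irrFinset R, avec R χ l := by
    rw [nonone, Finset.sum_erase]
    simp [avec]
  have h3 : ∀ l ∈ irrFinset R, Cfsg.classInner (fun x : R => (χ : G → ℂ) x) l * l 1 =
      (mult R χ l : ℂ) := fun l hl => by
    obtain ⟨lam, rfl⟩ := exists_hom_of_comm hR hl
    simp [mult_spec R χ hl]
  rw [Finset.sum_congr rfl h3] at h
  rw [h2]
  simp only [avec, Finset.sum_sub_distrib, Finset.sum_const, card_irr_comm hR, nsmul_eq_mul]
  rw [show (charDegree (χ : G → ℂ) : ℤ) = ∑ l ∈ irrFinset R, mult R χ l by exact_mod_cast h]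
  ring

variable [Fintype (IrrCharacter G)] {M : Ideal AlgInt} [M.IsPrime] [Fact (Nat.Prime 3)]

theorem InvFusion.apply_inv {P : Sylow 3 G} (hfus : InvFusion (P : Subgroup G)) (χ : IrrCharacter G)
    (x : (P : Subgroup G)) : (χ : G → ℂ) ((x : G)⁻¹) = (χ : G → ℂ) x := by
  obtain ⟨n, -, hn⟩ := hfus.inverter
  rw [← hn x x.2]
  exact isClassFunction_irr χ x n

theorem InvFusion.core {P : Sylow 3 G} (hfus : InvFusion (P : Subgroup G))
    (h9 : Nat.card (P : Subgroup G) = 9) (hP : IsMulCommutative (P : Subgroup G)) {x : G}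
    (hx : x ∈ P) (hx1 : x ≠ 1) :
    (CfsgLib.SectionCount.core 3 x).index = 3 ^ 2 := by
  refine core_index P h9 hP hx fun n hn hnx => (hfus.act n hn).resolve_right fun hinv => hx1 ?_
  have h1 := hinv x hx
  rw [hnx] at h1
  have hd : orderOf x ∣ 9 := h9 ▸ Subgroup.orderOf_dvd_natCard _ hx
  have h2 : x ^ 2 = 1 := by
    rw [sq]
    nth_rw 2 [h1]
    rw [mul_inv_cancel]
  have h3 : orderOf x ∣ Nat.gcd 2 9 := Nat.dvd_gcd (orderOf_dvd_of_pow_eq_one h2) hd
  exact orderOf_eq_one_iff.1 (Nat.eq_one_of_dvd_one (by simpa using h3))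

/-- **The vectors of the principal block.** -/
theorem inv_vectors (hM : IsPModular 3 M) (P : Sylow 3 G) (h9 : Nat.card (P : Subgroup G) = 9)
    (hP : IsMulCommutative (P : Subgroup G)) (hfus : InvFusion (P : Subgroup G)) :
    ∃ C ∈ prin G M, C ≠ oneIrr G ∧ ∃ δ : ℤ, (δ = 1 ∨ δ = -1) ∧
      (charDegree (C : G → ℂ) : ℤ) % 9 = (8 * δ) % 9 ∧
      ∀ l ∈ nonone (P : Subgroup G), ∃ D ∈ prin G M, D ≠ oneIrr G ∧ D ≠ C ∧
        ∃ ε : ℤ, (ε = 1 ∨ ε = -1) ∧ (charDegree (D : G → ℂ) : ℤ) % 9 = (2 * ε) % 9 ∧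
          (∀ y : G, ¬ 3 ∣ orderOf y →
            (δ : ℂ) * (C : G → ℂ) y + (ε : ℂ) * (D : G → ℂ) y = 1) ∧
          ∀ f : IrrCharacter G → ℂ, ∑ χ ∈ prin G M, (avec (P : Subgroup G) χ l : ℂ) * f χ =
            -f (oneIrr G) + δ * f C + ε * f D := by
  set R := (P : Subgroup G) with hRdef
  have hodd : Odd (Nat.card R) := by rw [h9]; decide
  set bar : (R → ℂ) → (R → ℂ) := fun l g => conj (l g) with hbar
  have hord : ∀ x : R, orderOf (x : G) ∣ 9 := fun x => h9 ▸ Subgroup.orderOf_dvd_natCard _ x.2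
  have hbarL : ∀ l ∈ nonone R, bar l ∈ nonone R := by
    intro l hl
    obtain ⟨h1, h2⟩ := mem_nonone.1 hl
    refine mem_nonone.2 ⟨mem_irrFinset.2 (IsIrrCharacter.conj (mem_irrFinset.1 h1)), fun e => h2 ?_⟩
    funext g
    have := congrFun e g
    simp only [hbar] at this
    rw [← Complex.conj_conj (l g), this, map_one]
  have hsym : ∀ χ : IrrCharacter G, ∀ l ∈ nonone R, avec R χ (bar l) = avec R χ l := by
    intro χ l hl
    have h1 := (mem_nonone.1 hl).1
    have h2 := (mem_nonone.1 (hbarL l hl)).1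
    apply Int.cast_injective (α := ℂ)
    refine mul_left_cancel₀ (a := (Nat.card R : ℂ)) (Nat.cast_ne_zero.2 Nat.card_pos.ne') ?_
    rw [avec_sum χ h1, avec_sum χ h2, ← Equiv.sum_comp (Equiv.inv R)]
    refine Finset.sum_congr rfl fun x _ => ?_
    obtain ⟨lam, rfl⟩ := exists_hom_of_comm hP h1
    simp only [Equiv.inv_apply, Subgroup.coe_inv, hfus.apply_inv χ x, hbar, Complex.conj_conj,
      conj_hom_apply, inv_inv]
  have hBsum : ∀ x : R, x ≠ 1 → ∀ μ : R → ℂ, μ ∈ irrFinset R →
      ∑ y : R, (∑ χ ∈ prin G M, (χ : G → ℂ) x * conj ((χ : G → ℂ) y)) * (μ y - 1) =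
        9 * (μ x + μ x⁻¹ - 2) := by
    intro x hx μ hμ
    have hxG : (x : G) ≠ 1 := fun e => hx (Subtype.ext (by simpa using e))
    have hne : x⁻¹ ≠ x := fun e => hx (by
      have h2 : x ^ 2 = 1 := by rw [sq]; nth_rw 1 [← e]; rw [inv_mul_cancel]
      have h3 : x ^ 9 = 1 := by rw [← h9, pow_card_eq_one']
      have h4 := pow_gcd_eq_one.2 ⟨h2, h3⟩
      simpa using h4)
    have hμ1 : μ 1 = 1 := by
      obtain ⟨lam, rfl⟩ := exists_hom_of_comm hP hμ
      simp
    have hself := col_self hM (hord x) (hfus.core h9 hP x.2 hxG)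
    rw [← Finset.sum_subset (Finset.subset_univ ({x, x⁻¹} : Finset R)), Finset.sum_pair hne.symm,
      hself]
    · have hinv : ∑ χ ∈ prin G M, (χ : G → ℂ) x * conj ((χ : G → ℂ) (x⁻¹ : R)) = 9 := by
        rw [← hself]
        refine Finset.sum_congr rfl fun χ _ => ?_
        rw [Subgroup.coe_inv, hfus.apply_inv χ x]
      rw [hinv]
      ring
    · intro y _ hy
      rcases eq_or_ne y 1 with rfl | hy1
      · rw [hμ1, sub_self, mul_zero]
      simp only [Finset.mem_insert, Finset.mem_singleton, not_or] at hy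
      rw [col_pair hM (hord x) (hord y) (hfus.core h9 hP x.2 hxG)
        (hfus.core h9 hP y.2 fun e => hy1 (Subtype.ext (by simpa using e))) fun hc => ?_, zero_mul]
      rcases hfus.fus x x.2 y y.2 hc with h | h
      · exact hy.1 (Subtype.ext h)
      · exact hy.2 (Subtype.ext (by simpa using h))
  have hgram : ∀ k ∈ nonone R, ∀ l ∈ nonone R,
      ∑ χ ∈ prin G M, avec R χ k * avec R χ l = if l = k ∨ l = bar k then 3 else 2 := by
    intro k hk l hl
    have hk' := (mem_nonone.1 hk).1
    have hl' := (mem_nonone.1 hl).1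
    have horth : ∀ μ ∈ irrFinset R, ∑ x : R, conj (k x) * μ x = if μ = k then (9 : ℂ) else 0 := by
      intro μ hμ
      have h := IsIrrCharacter.classInner_eq (mem_irrFinset.1 hμ) (mem_irrFinset.1 hk')
      rw [classInner_def, h9] at h
      push_cast at h
      rw [show ∑ x : R, conj (k x) * μ x = ∑ x : R, μ x * conj (k x) from
        Finset.sum_congr rfl fun x _ => mul_comm _ _]
      have h9' : (9 : ℂ) ≠ 0 := by norm_num
      rw [inv_mul_eq_iff_eq_mul₀ h9'] at h
      rw [h]
      split_ifs <;> simp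
    have hzero : ∀ μ ∈ nonone R, ∑ x : R, μ x = 0 := by
      intro μ hμ
      obtain ⟨hμ', hμ1⟩ := mem_nonone.1 hμ
      have h := IsIrrCharacter.classInner_eq (mem_irrFinset.1 hμ') (isIrrCharacter_one (G := R))
      rw [classInner_def, if_neg hμ1] at h
      simp only [map_one, mul_one] at h
      exact (mul_eq_zero.1 h).resolve_left (inv_ne_zero (Nat.cast_ne_zero.2 Nat.card_pos.ne'))
    have hcalc : (9 : ℂ) * 9 * ((∑ χ ∈ prin G M, avec R χ k * avec R χ l : ℤ) : ℂ) =
        9 * ((if l = k then 9 else 0) + (if bar l = k then 9 else 0) + 18) := by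
      have hreal : ∀ χ : IrrCharacter G, (9 : ℂ) * (avec R χ l : ℂ) =
          ∑ y : R, conj ((χ : G → ℂ) y) * (l y - 1) := by
        intro χ
        have h := congrArg conj (avec_sum χ hl')
        rw [h9, map_mul, map_intCast, map_sum] at h
        simp only [Nat.cast_ofNat, map_ofNat, map_mul, map_sub, map_one, Complex.conj_conj] at h
        exact h
      have hk9 : ∀ χ : IrrCharacter G, (9 : ℂ) * (avec R χ k : ℂ) =
          ∑ x : R, (χ : G → ℂ) x * (conj (k x) - 1) := fun χ => by
        have h := avec_sum χ hk'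
        rwa [h9, Nat.cast_ofNat] at h
      push_cast
      rw [Finset.mul_sum, show ∑ χ ∈ prin G M, (9 : ℂ) * 9 * ((avec R χ k : ℂ) * (avec R χ l : ℂ)) =
        ∑ x : R, (conj (k x) - 1) *
          ∑ y : R, (∑ χ ∈ prin G M, (χ : G → ℂ) x * conj ((χ : G → ℂ) y)) * (l y - 1) by
        rw [Finset.sum_congr rfl fun χ _ => show (9 : ℂ) * 9 * ((avec R χ k : ℂ) * (avec R χ l : ℂ)) =
          (∑ x : R, (χ : G → ℂ) x * (conj (k x) - 1)) *
            ∑ y : R, conj ((χ : G → ℂ) y) * (l y - 1) by rw [← hk9, ← hreal]; ring]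
        simp only [Finset.sum_mul_sum]
        rw [Finset.sum_comm]
        refine Finset.sum_congr rfl fun x _ => ?_
        rw [Finset.mul_sum, Finset.sum_comm]
        refine Finset.sum_congr rfl fun y _ => ?_
        rw [Finset.sum_mul, Finset.mul_sum]
        exact Finset.sum_congr rfl fun χ _ => by ring]
      rw [Finset.sum_congr rfl fun x _ => show (conj (k x) - 1) *
          ∑ y : R, (∑ χ ∈ prin G M, (χ : G → ℂ) x * conj ((χ : G → ℂ) y)) * (l y - 1) =
          9 * ((conj (k x) - 1) * (l x + bar l x - 2)) by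
        rcases eq_or_ne x 1 with rfl | hx
        · obtain ⟨lam, rfl⟩ := exists_hom_of_comm hP hk'
          simp
        · rw [hBsum x hx l hl']
          obtain ⟨lam, rfl⟩ := exists_hom_of_comm hP hl'
          simp only [hbar, conj_hom_apply]
          ring]
      rw [← Finset.mul_sum]
      congr 1
      simp only [sub_mul, mul_add, mul_sub, one_mul, Finset.sum_sub_distrib, Finset.sum_add_distrib]
      rw [horth l hl', horth (bar l) (mem_nonone.1 (hbarL l hl)).1, hzero l hl,
        hzero (bar l) (hbarL l hl)]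
      have hk0 : ∑ x : R, conj (k x) = 0 := hzero (bar k) (hbarL k hk)
      rw [← Finset.sum_mul, hk0]
      simp [← Nat.card_eq_fintype_card, h9]
      norm_num
    have hiff : bar l = k ↔ l = bar k := by
      constructor <;> intro e <;> [rw [← e]; rw [e]] <;> funext g <;> simp [hbar]
    have hself : ¬ (l = k ∧ bar l = k) := fun h =>
      (mem_nonone.1 hl).2 (eq_one_of_real hP hodd hl' (h.2.trans h.1.symm))
    apply Int.cast_injective (α := ℂ)
    refine mul_left_cancel₀ (a := (9 : ℂ) * 9) (by norm_num) (hcalc.trans ?_)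
    by_cases h1 : l = k <;> by_cases h2 : bar l = k
    · exact absurd ⟨h1, h2⟩ hself
    · rw [if_pos h1, if_neg h2, if_pos (Or.inl h1)]; push_cast; norm_num
    · rw [if_neg h1, if_pos h2, if_pos (Or.inr (hiff.1 h2))]; push_cast; norm_num
    · rw [if_neg h1, if_neg h2, if_neg (not_or.2 ⟨h1, fun e => h2 (hiff.2 e)⟩)]; push_cast; norm_num
  have hone : ∀ l ∈ nonone R, avec R (oneIrr G) l = -1 := by
    intro l hl
    obtain ⟨hl', hl1⟩ := mem_nonone.1 hl
    apply Int.cast_injective (α := ℂ)
    rw [avec, Int.cast_sub, mult_spec R _ hl', mult_spec R _ (one_mem_irr R)]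
    have e : (fun x : R => (oneIrr G : G → ℂ) x) = fun _ => (1 : ℂ) := by funext x; simp [oneIrr_coe]
    rw [e, IsIrrCharacter.classInner_eq isIrrCharacter_one (mem_irrFinset.1 hl'),
      IsIrrCharacter.classInner_eq isIrrCharacter_one isIrrCharacter_one, if_neg (Ne.symm hl1),
      if_pos rfl]
    norm_num
  set s := (prin G M).erase (oneIrr G) with hs
  have hsplit : ∀ l ∈ nonone R, ∀ f : IrrCharacter G → ℂ,
      ∑ χ ∈ prin G M, (avec R χ l : ℂ) * f χ = -f (oneIrr G) + ∑ χ ∈ s, (avec R χ l : ℂ) * f χ := by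
    intro l hl f
    rw [← Finset.add_sum_erase _ _ (one_mem_prin (M := M)), hone l hl]
    push_cast
    ring
  obtain ⟨C, hC, δ, hδ, hCδ, hD⟩ := star bar (avec R) hbarL
    (fun l _ => by funext g; simp [hbar]) (fun l hl e => (mem_nonone.1 hl).2
      (eq_one_of_real hP hodd (mem_nonone.1 hl).1 e))
    (s := s) (fun χ _ l hl => hsym χ l hl)
    (by rw [nonone, Finset.card_erase_of_mem (one_mem_irr R), card_irr_comm hP, h9])
    (fun k hk l hl => by
      have h := hgram k hk l hl
      rw [← Finset.add_sum_erase _ _ (one_mem_prin (M := M)), hone k hk, hone l hl] at h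
      split_ifs at h ⊢ <;> linarith)
  obtain ⟨hC1, hCB⟩ := Finset.mem_erase.1 hC
  refine ⟨C, hCB, hC1, δ, hδ, ?_, fun l hl => ?_⟩
  · rw [degree_eq hP C, Finset.sum_congr rfl hCδ, Finset.sum_const, nonone,
      Finset.card_erase_of_mem (one_mem_irr R), card_irr_comm hP, h9, nsmul_eq_mul]
    push_cast
    omega
  obtain ⟨D, hDs, hDC, hε, hoth, hDoff⟩ := hD l hl
  obtain ⟨hD1, hDB⟩ := Finset.mem_erase.1 hDs
  have hf : ∀ f : IrrCharacter G → ℂ, ∑ χ ∈ prin G M, (avec R χ l : ℂ) * f χ =
      -f (oneIrr G) + δ * f C + (avec R D l : ℤ) * f D := by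
    intro f
    rw [hsplit l hl f, ← Finset.sum_subset (show ({C, D} : Finset _) ⊆ s by
      intro i hi
      simp only [Finset.mem_insert, Finset.mem_singleton] at hi
      rcases hi with rfl | rfl <;> assumption) (fun i hi hi' => by
        simp only [Finset.mem_insert, Finset.mem_singleton, not_or] at hi'
        rw [hoth i hi hi'.1 hi'.2, Int.cast_zero, zero_mul]),
      Finset.sum_pair hDC.symm, hCδ l hl]
    ring
  refine ⟨D, hDB, hD1, hDC, avec R D l, hε, ?_, fun y hy => ?_, hf⟩
  · have hne : bar l ≠ l := fun e => (mem_nonone.1 hl).2 (eq_one_of_real hP hodd (mem_nonone.1 hl).1 e)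
    rw [degree_eq hP D, ← Finset.sum_subset (show ({l, bar l} : Finset _) ⊆ nonone R by
      intro i hi
      simp only [Finset.mem_insert, Finset.mem_singleton] at hi
      rcases hi with rfl | rfl
      · exact hl
      · exact hbarL l hl) (fun i hi hi' => by
        simp only [Finset.mem_insert, Finset.mem_singleton, not_or] at hi'
        exact hDoff i hi hi'.1 hi'.2), Finset.sum_pair hne.symm, hsym D l hl, h9]
    omega
  · have h := hf (fun χ => (χ : G → ℂ) y)
    have hz : ∑ χ ∈ prin G M, (avec R χ l : ℂ) * (χ : G → ℂ) y = 0 := by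
      suffices h0 : (9 : ℂ) * ∑ χ ∈ prin G M, (avec R χ l : ℂ) * (χ : G → ℂ) y = 0 from
        (mul_eq_zero.1 h0).resolve_left (by norm_num)
      have hrw : ∀ χ : IrrCharacter G, (9 : ℂ) * ((avec R χ l : ℂ) * (χ : G → ℂ) y) =
          ∑ x : R, (l x - 1) * ((χ : G → ℂ) y * conj ((χ : G → ℂ) x)) := by
        intro χ
        have h := congrArg conj (avec_sum χ (mem_nonone.1 hl).1)
        rw [h9, map_mul, map_intCast, map_sum] at h
        simp only [Nat.cast_ofNat, map_ofNat, map_mul, map_sub, map_one, Complex.conj_conj] at h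
        rw [← mul_assoc, h, Finset.sum_mul]
        exact Finset.sum_congr rfl fun x _ => by ring
      rw [Finset.mul_sum, Finset.sum_congr rfl fun χ _ => hrw χ, Finset.sum_comm]
      refine Finset.sum_eq_zero fun x _ => ?_
      rw [← Finset.mul_sum]
      rcases eq_or_ne x 1 with rfl | hx
      · obtain ⟨lam, rfl⟩ := exists_hom_of_comm hP (mem_nonone.1 hl).1
        simp
      · rw [col_regular hM (hord x) (fun e => hx (Subtype.ext (by simpa using e))) hy, mul_zero]
    rw [hz, oneIrr_coe] at h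
    linear_combination -h

end CfsgLib.NineTwo
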